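import Cfsg.Agent.Comp.TCDefs

set_option autoImplicit false
set_option maxRecDepth 1000000
set_option maxHeartbeats 0
set_option Elab.async false

namespace CF.Comp.J3

noncomputable def e0_c0 : BT (Bx Nat) := (BT.leaf (Bx.mk (nat_lit 0x51294000194939a5100002b31e8a9f3867a833cc1b260db286cb4330819b4497000061419e1a8d0c65862b030e41a110c53062e52146196b0c31060dd6070a0330c79060b0304618210c10860e440400000000)))
noncomputable def e0_c1 : BT (Bx Nat) := (BT.leaf (Bx.mk (nat_lit 0x59a96adcc0000ab5151b8c0000000000005a57800000000000000002afb36697ab6c0000000000000d032000000000000000000000000000000b2658000000000000000000003409c000000000000341040000)))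
noncomputable def e0_c2 : BT (Bx Nat) := (BT.leaf (Bx.mk (nat_lit 0xf45b386d80003289f745d286c80001e8be00000000000020898e45a00000000000000000d02e0000000000000c1a2800000000000000006814ae89a000000000000341060000)))
noncomputable def e0_c3 : BT (Bx Nat) := (BT.leaf (Bx.mk (nat_lit 0x848c800031139938f83903e0500000000000000000000000000000064e1800000000d02e80003080b171500000000000000000000000002e716000000000000341080000)))
noncomputable def e0_c4 : BT (Bx Nat) := (BT.leaf (Bx.mk (nat_lit 0x64c5726280000c988e4c4000000000000064c3d063899dd00000000154339308c9838000340cda065c9830000340c7a062d02f0000000000000c981800000001a058d02be814f2283a04dd02580003410a0000)))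
noncomputable def e0_c5 : BT (Bx Nat) := (BT.leaf (Bx.mk (nat_lit 0x1079f79f06234c0000000000003e14b279600000000000022f2903d5b9ef0000000000000c9e28000340b793c3d02c8000000000000000064707409e0000d02600003410c0000)))
noncomputable def e0_c6 : BT (Bx Nat) := (BT.leaf (Bx.mk (nat_lit 0x192cfb9700000000000000000064b3000000000000000003258d72d5000000003258b72d1d02f800000001175200000000000019241b9646815340a00000000000003410e0000)))
noncomputable def e0_c7 : BT (Bx Nat) := (BT.leaf (Bx.mk (nat_lit 0x1829fcae7800000000000000000000000000000000000003052995c6000000003052195c5d030000000001a05a00000000000018287c900e815740a2000000000000341100000)))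
noncomputable def e0_c8 : BT (Bx Nat) := (BT.leaf (Bx.mk (nat_lit 0xa2b0000000000000000000000134b2000000000000000017555000000002ec216651d030800000000000000000000000000000baa46815b030a000000000000341120000)))
noncomputable def e0_c9 : BT (Bx Nat) := (BT.leaf (Bx.mk (nat_lit 0x341140000)))
noncomputable def e0_p : BT (Bx Nat) := (BT.leaf (Bx.mk (nat_lit 0x3544d4134c1d113404cf233c7cf1b3c4cf0f3c2cd17307cb162048712188861e1868612182851e146851614184120c5831104941210474119045411104341090410000000)))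
noncomputable def e0_e0 : BT Nat := (BT.node (nat_lit 1152) (BT.node (nat_lit 704) (BT.node (nat_lit 384) (BT.node (nat_lit 256) (BT.leaf (nat_lit 6409)) (BT.node (nat_lit 320) (BT.leaf (nat_lit 6925)) (BT.leaf (nat_lit 3857)))) (BT.node (nat_lit 448) (BT.leaf (nat_lit 5141)) (BT.node (nat_lit 512) (BT.leaf (nat_lit 2073)) (BT.leaf (nat_lit 6161))))) (BT.node (nat_lit 960) (BT.node (nat_lit 768) (BT.leaf (nat_lit 6921)) (BT.node (nat_lit 832) (BT.leaf (nat_lit 6681)) (BT.leaf (nat_lit 3853)))) (BT.node (nat_lit 1024) (BT.leaf (nat_lit 7957)) (BT.node (nat_lit 1088) (BT.leaf (nat_lit 4377)) (BT.leaf (nat_lit 8977)))))) (BT.node (nat_lit 1728) (BT.node (nat_lit 1344) (BT.node (nat_lit 1216) (BT.leaf (nat_lit 6677)) (BT.node (nat_lit 1280) (BT.leaf (nat_lit 1553)) (BT.leaf (nat_lit 5401)))) (BT.node (nat_lit 1600) (BT.leaf (nat_lit 9745)) (BT.node (nat_lit 1664) (BT.leaf (nat_lit 3849)) (BT.leaf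 (nat_lit 5385))))) (BT.node (nat_lit 1856) (BT.node (nat_lit 1730) (BT.leaf (nat_lit 7441)) (BT.node (nat_lit 1792) (BT.leaf (nat_lit 112)) (BT.leaf (nat_lit 7945)))) (BT.node (nat_lit 1984) (BT.node (nat_lit 1920) (BT.leaf (nat_lit 7949)) (BT.leaf (nat_lit 4885))) (BT.node (nat_lit 1986) (BT.leaf (nat_lit 8217)) (BT.leaf (nat_lit 128)))))))
noncomputable def e0_e : BT Nat := e0_e0
noncomputable def e0_cols : List (BT (Bx Nat)) := [e0_c0, e0_c1, e0_c2, e0_c3, e0_c4, e0_c5, e0_c6, e0_c7, e0_c8, e0_c9]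
noncomputable def e0_ch (x j : Nat) : Bx Nat := chunkG e0_cols (nat_lit 1) x j
noncomputable def e0_L (x : Nat) : Bx (Nat → Nat) := lookG e0_ch (nat_lit 8) (nat_lit 255) (nat_lit 17) (nat_lit 131071) x
noncomputable def e0_pc (_ j : Nat) : Bx Nat := e0_p.get j
noncomputable def e0_pb : Bx (Nat → Nat) := lookG e0_pc (nat_lit 8) (nat_lit 255) (nat_lit 14) (nat_lit 16383) (nat_lit 0)
noncomputable def e0_rots : BT CW := (BT.node (nat_lit 21) (BT.node (nat_lit 10) (BT.node (nat_lit 5) (BT.node (nat_lit 2) (BT.node (nat_lit 1) (BT.leaf ⟨[], (nat_lit 1000000), (nat_lit 0), (nat_lit 0), (nat_lit 0)⟩) (BT.leaf ⟨[], (nat_lit 1000000), (nat_lit 0), (nat_lit 0), (nat_lit 1)⟩)) (BT.node (nat_lit 3) (BT.leaf ⟨[], (nat_lit 1000000), (nat_lit 0), (nat_lit 0), (nat_lit 2)⟩) (BT.node (nat_lit 4) (BT.leaf ⟨[(nat_lit 0), (nat_lit 1)], (nat_lit 0), (nat_lit 0), (nat_lit 1), (nat_lit 3)⟩) (BT.leaf ⟨[(nat_lit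 4), (nat_lit 4)], (nat_lit 55), (nat_lit 0), (nat_lit 0), (nat_lit 3)⟩)))) (BT.node (nat_lit 7) (BT.node (nat_lit 6) (BT.leaf ⟨[(nat_lit 8), (nat_lit 4), (nat_lit 1), (nat_lit 4)], (nat_lit 4), (nat_lit 2), (nat_lit 0), (nat_lit 5)⟩) (BT.leaf ⟨[(nat_lit 5), (nat_lit 5)], (nat_lit 56), (nat_lit 0), (nat_lit 0), (nat_lit 3)⟩)) (BT.node (nat_lit 8) (BT.leaf ⟨[(nat_lit 7), (nat_lit 6)], (nat_lit 72), (nat_lit 1), (nat_lit 0), (nat_lit 3)⟩) (BT.node (nat_lit 9) (BT.leaf ⟨[(nat_lit 6), (nat_lit 7)], (nat_lit 72), (nat_lit 0), (nat_lit 0), (nat_lit 3)⟩) (BT.leaf ⟨[(nat_lit 7), (nat_lit 7), (nat_lit 7)], (nat_lit 94), (nat_lit 0), (nat_lit 0), (nat_lit 4)⟩))))) (BT.node (nat_lit 15) (BT.node (nat_lit 12) (BT.node (nat_lit 11) (BT.leaf ⟨[(nat_lit 6), (nat_lit 7)], (nat_lit 72), (nat_lit 0), (nat_lit 0), (nat_lit 4)⟩) (BT.leaf ⟨[(nat_lit 4), (nat_lit 4)], (nat_lit 55), (nat_lit 0), (nat_lit 0), (nat_lit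 4)⟩)) (BT.node (nat_lit 13) (BT.leaf ⟨[(nat_lit 2), (nat_lit 4), (nat_lit 2), (nat_lit 4)], (nat_lit 6), (nat_lit 0), (nat_lit 0), (nat_lit 4)⟩) (BT.node (nat_lit 14) (BT.leaf ⟨[(nat_lit 3), (nat_lit 2)], (nat_lit 75), (nat_lit 1), (nat_lit 0), (nat_lit 4)⟩) (BT.leaf ⟨[(nat_lit 5), (nat_lit 5)], (nat_lit 56), (nat_lit 0), (nat_lit 0), (nat_lit 4)⟩)))) (BT.node (nat_lit 18) (BT.node (nat_lit 16) (BT.leaf ⟨[(nat_lit 3), (nat_lit 4), (nat_lit 3), (nat_lit 4)], (nat_lit 83), (nat_lit 1), (nat_lit 0), (nat_lit 4)⟩) (BT.node (nat_lit 17) (BT.leaf ⟨[(nat_lit 2), (nat_lit 3)], (nat_lit 75), (nat_lit 0), (nat_lit 0), (nat_lit 4)⟩) (BT.leaf ⟨[(nat_lit 0), (nat_lit 1)], (nat_lit 0), (nat_lit 0), (nat_lit 1), (nat_lit 4)⟩))) (BT.node (nat_lit 19) (BT.leaf ⟨[(nat_lit 1), (nat_lit 2), (nat_lit 1), (nat_lit 3)], (nat_lit 3), (nat_lit 0), (nat_lit 0), (nat_lit 5)⟩) (BT.node (nat_lit 20) (BT.leaf ⟨[(nat_lit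 0), (nat_lit 4), (nat_lit 1), (nat_lit 4), (nat_lit 8)], (nat_lit 4), (nat_lit 3), (nat_lit 1), (nat_lit 5)⟩) (BT.leaf ⟨[(nat_lit 8), (nat_lit 6), (nat_lit 8), (nat_lit 6)], (nat_lit 19), (nat_lit 1), (nat_lit 0), (nat_lit 5)⟩)))))) (BT.node (nat_lit 31) (BT.node (nat_lit 26) (BT.node (nat_lit 23) (BT.node (nat_lit 22) (BT.leaf ⟨[(nat_lit 0), (nat_lit 1), (nat_lit 8), (nat_lit 1), (nat_lit 8), (nat_lit 9)], (nat_lit 67), (nat_lit 0), (nat_lit 1), (nat_lit 5)⟩) (BT.leaf ⟨[(nat_lit 7), (nat_lit 6)], (nat_lit 72), (nat_lit 1), (nat_lit 0), (nat_lit 4)⟩)) (BT.node (nat_lit 24) (BT.leaf ⟨[(nat_lit 8), (nat_lit 7), (nat_lit 8), (nat_lit 7)], (nat_lit 96), (nat_lit 0), (nat_lit 0), (nat_lit 4)⟩) (BT.node (nat_lit 25) (BT.leaf ⟨[(nat_lit 8), (nat_lit 8)], (nat_lit 59), (nat_lit 0), (nat_lit 0), (nat_lit 4)⟩) (BT.leaf ⟨[(nat_lit 1), (nat_lit 4), (nat_lit 8), (nat_lit 4)], (nat_lit 4), (nat_lit 0),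 (nat_lit 0), (nat_lit 4)⟩)))) (BT.node (nat_lit 28) (BT.node (nat_lit 27) (BT.leaf ⟨[(nat_lit 1), (nat_lit 1)], (nat_lit 58), (nat_lit 0), (nat_lit 0), (nat_lit 4)⟩) (BT.leaf ⟨[(nat_lit 3), (nat_lit 6), (nat_lit 5), (nat_lit 7), (nat_lit 2), (nat_lit 5)], (nat_lit 25), (nat_lit 2), (nat_lit 0), (nat_lit 5)⟩)) (BT.node (nat_lit 29) (BT.leaf ⟨[(nat_lit 6), (nat_lit 3), (nat_lit 5), (nat_lit 7), (nat_lit 2), (nat_lit 5)], (nat_lit 26), (nat_lit 2), (nat_lit 0), (nat_lit 5)⟩) (BT.node (nat_lit 30) (BT.leaf ⟨[(nat_lit 5), (nat_lit 7), (nat_lit 5), (nat_lit 7), (nat_lit 5), (nat_lit 7)], (nat_lit 105), (nat_lit 1), (nat_lit 0), (nat_lit 5)⟩) (BT.leaf ⟨[(nat_lit 1), (nat_lit 5), (nat_lit 1), (nat_lit 5)], (nat_lit 5), (nat_lit 0), (nat_lit 0), (nat_lit 4)⟩))))) (BT.node (nat_lit 36) (BT.node (nat_lit 33) (BT.node (nat_lit 32) (BT.leaf ⟨[(nat_lit 3), (nat_lit 6), (nat_lit 2), (nat_lit 7)], (nat_lit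 95), (nat_lit 3), (nat_lit 0), (nat_lit 4)⟩) (BT.leaf ⟨[(nat_lit 5), (nat_lit 3), (nat_lit 6), (nat_lit 5), (nat_lit 2), (nat_lit 7)], (nat_lit 103), (nat_lit 4), (nat_lit 0), (nat_lit 4)⟩)) (BT.node (nat_lit 34) (BT.leaf ⟨[(nat_lit 3), (nat_lit 3), (nat_lit 3)], (nat_lit 79), (nat_lit 0), (nat_lit 0), (nat_lit 4)⟩) (BT.node (nat_lit 35) (BT.leaf ⟨[(nat_lit 5), (nat_lit 4), (nat_lit 5), (nat_lit 4), (nat_lit 5), (nat_lit 4)], (nat_lit 12), (nat_lit 1), (nat_lit 0), (nat_lit 4)⟩) (BT.leaf ⟨[(nat_lit 3), (nat_lit 5), (nat_lit 2), (nat_lit 7), (nat_lit 5), (nat_lit 6)], (nat_lit 27), (nat_lit 4), (nat_lit 0), (nat_lit 5)⟩)))) (BT.node (nat_lit 39) (BT.node (nat_lit 37) (BT.leaf ⟨[(nat_lit 1), (nat_lit 5), (nat_lit 1), (nat_lit 5)], (nat_lit 5), (nat_lit 0), (nat_lit 0), (nat_lit 5)⟩) (BT.node (nat_lit 38) (BT.leaf ⟨[(nat_lit 0), (nat_lit 4), (nat_lit 1), (nat_lit 4), (nat_lit 8)], (nat_lit 4),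 (nat_lit 3), (nat_lit 1), (nat_lit 4)⟩) (BT.leaf ⟨[(nat_lit 4), (nat_lit 2), (nat_lit 4), (nat_lit 2)], (nat_lit 6), (nat_lit 1), (nat_lit 0), (nat_lit 5)⟩))) (BT.node (nat_lit 40) (BT.leaf ⟨[(nat_lit 4), (nat_lit 5), (nat_lit 4), (nat_lit 5), (nat_lit 4), (nat_lit 5)], (nat_lit 12), (nat_lit 0), (nat_lit 0), (nat_lit 5)⟩) (BT.node (nat_lit 41) (BT.leaf ⟨[(nat_lit 8), (nat_lit 4), (nat_lit 1), (nat_lit 4)], (nat_lit 4), (nat_lit 2), (nat_lit 0), (nat_lit 4)⟩) (BT.leaf ⟨[(nat_lit 0), (nat_lit 3), (nat_lit 8), (nat_lit 2), (nat_lit 8)], (nat_lit 7), (nat_lit 2), (nat_lit 1), (nat_lit 4)⟩)))))))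
noncomputable def e0_hcs : List CW := []
noncomputable def e0_H (x j : Nat) : Bx (Nat → Nat → Nat) := mkH e0_L e0_pb.1 e0_e.get (lmap CW.w e0_hcs) (nat_lit 1) (nat_lit 2) (nat_lit 10) (nat_lit 64) (nat_lit 4096) (nat_lit 4095) x (e0_rots.get j)
noncomputable def e0_F (x b : Nat) : Bool := blkOK e0_H e0_ch (nat_lit 2) (nat_lit 64) (nat_lit 64) (nat_lit 8) (nat_lit 255) (nat_lit 17) (nat_lit 131071) x b

theorem e0_k0_0 : allFrom (e0_F (nat_lit 0)) (nat_lit 0) (nat_lit 4) = true := by decide +kernel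
theorem e0_k1_0 : allFrom (e0_F (nat_lit 1)) (nat_lit 0) (nat_lit 4) = true := by decide +kernel
theorem e0_k2_0 : allFrom (e0_F (nat_lit 2)) (nat_lit 0) (nat_lit 4) = true := by decide +kernel
theorem e0_k3_0 : allFrom (e0_F (nat_lit 3)) (nat_lit 0) (nat_lit 4) = true := by decide +kernel
theorem e0_k4_0 : allFrom (e0_F (nat_lit 4)) (nat_lit 0) (nat_lit 4) = true := by decide +kernel
theorem e0_k5_0 : allFrom (e0_F (nat_lit 5)) (nat_lit 0) (nat_lit 4) = true := by decide +kernel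
theorem e0_k6_0 : allFrom (e0_F (nat_lit 6)) (nat_lit 0) (nat_lit 4) = true := by decide +kernel
theorem e0_k7_0 : allFrom (e0_F (nat_lit 7)) (nat_lit 0) (nat_lit 4) = true := by decide +kernel
theorem e0_k8_0 : allFrom (e0_F (nat_lit 8)) (nat_lit 0) (nat_lit 4) = true := by decide +kernel
theorem e0_k9_0 : allFrom (e0_F (nat_lit 9)) (nat_lit 0) (nat_lit 4) = true := by decide +kernel


end CF.Comp.J3
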