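import Cfsg.Agent.Comp.Defs

set_option autoImplicit false
set_option maxRecDepth 1000000
set_option maxHeartbeats 0
set_option Elab.async false

namespace CF.Comp.J3

noncomputable def M0 : List (List (List Nat)) := [[[1, 0, 0, 0, 0, 0, 0, 0, 0], [0, 1, 0, 0, 0, 0, 0, 0, 0], [0, 0, 1, 0, 0, 0, 0, 0, 0], [0, 0, 0, 1, 0, 0, 0, 0, 0], [0, 0, 0, 0, 1, 0, 0, 0, 0], [0, 0, 0, 0, 0, 1, 0, 0, 0], [0, 0, 0, 0, 0, 0, 1, 0, 0], [0, 0, 0, 0, 0, 0, 0, 1, 0], [0, 0, 0, 0, 0, 0, 0, 0, 1]],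
  [[1, 0, 0, 0, 0, 0, 0, 0, 0], [0, 1, 0, 0, 0, 0, 0, 0, 0], [0, 0, 1, 0, 0, 0, 0, 0, 0], [0, 0, 0, 1, 0, 0, 0, 0, 0], [0, 0, 0, 0, 1, 0, 0, 0, 0], [0, 0, 0, 0, 0, 1, 0, 0, 0], [0, 0, 0, 0, 0, 0, 1, 0, 0], [0, 0, 0, 0, 0, 0, 0, 1, 0], [0, 0, 0, 0, 0, 0, 0, 0, 1]],
  [[1, 0, 0, 0, 0, 0, 0, 0, 0], [0, 1, 0, 0, 0, 0, 0, 0, 0], [0, 0, 1, 0, 0, 0, 0, 0, 0], [0, 0, 0, 1, 0, 0, 0, 0, 0], [0, 0, 0, 0, 1, 0, 0, 0, 0], [0, 0, 0, 0, 0, 1, 0, 0, 0], [0, 0, 0, 0, 0, 0, 1, 0, 0], [0, 0, 0, 0, 0, 0, 0, 1, 0], [0, 0, 0, 0, 0, 0, 0, 0, 1]],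
  [[1, 0, 0, 0, 0, 0, 0, 0, 0], [0, 2, 0, 0, 0, 0, 0, 0, 0], [0, 0, 3, 0, 0, 0, 0, 0, 0], [0, 0, 0, 1, 0, 0, 0, 0, 0], [0, 0, 0, 0, 2, 0, 0, 0, 0], [0, 0, 0, 0, 0, 3, 0, 0, 0], [0, 0, 0, 0, 0, 0, 1, 0, 0], [0, 0, 0, 0, 0, 0, 0, 2, 0], [0, 0, 0, 0, 0, 0, 0, 0, 3]],
  [[1, 0, 0, 0, 0, 0, 0, 0, 0], [0, 3, 0, 0, 0, 0, 0, 0, 0], [0, 0, 2, 0, 0, 0, 0, 0, 0], [0, 0, 0, 1, 0, 0, 0, 0, 0], [0, 0, 0, 0, 3, 0, 0, 0, 0], [0, 0, 0, 0, 0, 2, 0, 0, 0], [0, 0, 0, 0, 0, 0, 1, 0, 0], [0, 0, 0, 0, 0, 0, 0, 3, 0], [0, 0, 0, 0, 0, 0, 0, 0, 2]],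
  [[1, 0, 0, 0, 0, 0, 0, 0, 0], [0, 3, 0, 0, 0, 0, 0, 0, 0], [0, 0, 2, 0, 0, 0, 0, 0, 0], [0, 0, 0, 1, 0, 0, 0, 0, 0], [0, 0, 0, 0, 3, 0, 0, 0, 0], [0, 0, 0, 0, 0, 2, 0, 0, 0], [0, 0, 0, 0, 0, 0, 1, 0, 0], [0, 0, 0, 0, 0, 0, 0, 3, 0], [0, 0, 0, 0, 0, 0, 0, 0, 2]],
  [[1, 0, 0, 0, 0, 0, 0, 0, 0], [0, 2, 0, 0, 0, 0, 0, 0, 0], [0, 0, 3, 0, 0, 0, 0, 0, 0], [0, 0, 0, 1, 0, 0, 0, 0, 0], [0, 0, 0, 0, 2, 0, 0, 0, 0], [0, 0, 0, 0, 0, 3, 0, 0, 0], [0, 0, 0, 0, 0, 0, 1, 0, 0], [0, 0, 0, 0, 0, 0, 0, 2, 0], [0, 0, 0, 0, 0, 0, 0, 0, 3]],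
  [[1, 0, 0, 0, 0, 0, 0, 0, 0], [0, 1, 0, 0, 0, 0, 0, 0, 0], [0, 0, 1, 0, 0, 0, 0, 0, 0], [0, 0, 0, 2, 0, 0, 0, 0, 0], [0, 0, 0, 0, 2, 0, 0, 0, 0], [0, 0, 0, 0, 0, 2, 0, 0, 0], [0, 0, 0, 0, 0, 0, 3, 0, 0], [0, 0, 0, 0, 0, 0, 0, 3, 0], [0, 0, 0, 0, 0, 0, 0, 0, 3]],
  [[1, 0, 0, 0, 0, 0, 0, 0, 0], [0, 1, 0, 0, 0, 0, 0, 0, 0], [0, 0, 1, 0, 0, 0, 0, 0, 0], [0, 0, 0, 3, 0, 0, 0, 0, 0], [0, 0, 0, 0, 3, 0, 0, 0, 0], [0, 0, 0, 0, 0, 3, 0, 0, 0], [0, 0, 0, 0, 0, 0, 2, 0, 0], [0, 0, 0, 0, 0, 0, 0, 2, 0], [0, 0, 0, 0, 0, 0, 0, 0, 2]],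
  [[1, 0, 0, 0, 0, 0, 0, 0, 0], [0, 2, 0, 0, 0, 0, 0, 0, 0], [0, 0, 3, 0, 0, 0, 0, 0, 0], [0, 0, 0, 2, 0, 0, 0, 0, 0], [0, 0, 0, 0, 3, 0, 0, 0, 0], [0, 0, 0, 0, 0, 1, 0, 0, 0], [0, 0, 0, 0, 0, 0, 3, 0, 0], [0, 0, 0, 0, 0, 0, 0, 1, 0], [0, 0, 0, 0, 0, 0, 0, 0, 2]],
  [[1, 0, 0, 0, 0, 0, 0, 0, 0], [0, 3, 0, 0, 0, 0, 0, 0, 0], [0, 0, 2, 0, 0, 0, 0, 0, 0], [0, 0, 0, 3, 0, 0, 0, 0, 0], [0, 0, 0, 0, 2, 0, 0, 0, 0], [0, 0, 0, 0, 0, 1, 0, 0, 0], [0, 0, 0, 0, 0, 0, 2, 0, 0], [0, 0, 0, 0, 0, 0, 0, 1, 0], [0, 0, 0, 0, 0, 0, 0, 0, 3]],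
  [[1, 0, 0, 0, 0, 0, 0, 0, 0], [0, 3, 0, 0, 0, 0, 0, 0, 0], [0, 0, 2, 0, 0, 0, 0, 0, 0], [0, 0, 0, 2, 0, 0, 0, 0, 0], [0, 0, 0, 0, 1, 0, 0, 0, 0], [0, 0, 0, 0, 0, 3, 0, 0, 0], [0, 0, 0, 0, 0, 0, 3, 0, 0], [0, 0, 0, 0, 0, 0, 0, 2, 0], [0, 0, 0, 0, 0, 0, 0, 0, 1]],
  [[1, 0, 0, 0, 0, 0, 0, 0, 0], [0, 2, 0, 0, 0, 0, 0, 0, 0], [0, 0, 3, 0, 0, 0, 0, 0, 0], [0, 0, 0, 3, 0, 0, 0, 0, 0], [0, 0, 0, 0, 1, 0, 0, 0, 0], [0, 0, 0, 0, 0, 2, 0, 0, 0], [0, 0, 0, 0, 0, 0, 2, 0, 0], [0, 0, 0, 0, 0, 0, 0, 3, 0], [0, 0, 0, 0, 0, 0, 0, 0, 1]],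
  [[1, 0, 0, 0, 0, 0, 0, 0, 0], [0, 1, 0, 0, 0, 0, 0, 0, 0], [0, 0, 1, 0, 0, 0, 0, 0, 0], [0, 0, 0, 3, 0, 0, 0, 0, 0], [0, 0, 0, 0, 3, 0, 0, 0, 0], [0, 0, 0, 0, 0, 3, 0, 0, 0], [0, 0, 0, 0, 0, 0, 2, 0, 0], [0, 0, 0, 0, 0, 0, 0, 2, 0], [0, 0, 0, 0, 0, 0, 0, 0, 2]],
  [[1, 0, 0, 0, 0, 0, 0, 0, 0], [0, 1, 0, 0, 0, 0, 0, 0, 0], [0, 0, 1, 0, 0, 0, 0, 0, 0], [0, 0, 0, 2, 0, 0, 0, 0, 0], [0, 0, 0, 0, 2, 0, 0, 0, 0], [0, 0, 0, 0, 0, 2, 0, 0, 0], [0, 0, 0, 0, 0, 0, 3, 0, 0], [0, 0, 0, 0, 0, 0, 0, 3, 0], [0, 0, 0, 0, 0, 0, 0, 0, 3]],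
  [[1, 0, 0, 0, 0, 0, 0, 0, 0], [0, 2, 0, 0, 0, 0, 0, 0, 0], [0, 0, 3, 0, 0, 0, 0, 0, 0], [0, 0, 0, 3, 0, 0, 0, 0, 0], [0, 0, 0, 0, 1, 0, 0, 0, 0], [0, 0, 0, 0, 0, 2, 0, 0, 0], [0, 0, 0, 0, 0, 0, 2, 0, 0], [0, 0, 0, 0, 0, 0, 0, 3, 0], [0, 0, 0, 0, 0, 0, 0, 0, 1]],
  [[1, 0, 0, 0, 0, 0, 0, 0, 0], [0, 3, 0, 0, 0, 0, 0, 0, 0], [0, 0, 2, 0, 0, 0, 0, 0, 0], [0, 0, 0, 2, 0, 0, 0, 0, 0], [0, 0, 0, 0, 1, 0, 0, 0, 0], [0, 0, 0, 0, 0, 3, 0, 0, 0], [0, 0, 0, 0, 0, 0, 3, 0, 0], [0, 0, 0, 0, 0, 0, 0, 2, 0], [0, 0, 0, 0, 0, 0, 0, 0, 1]],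
  [[1, 0, 0, 0, 0, 0, 0, 0, 0], [0, 3, 0, 0, 0, 0, 0, 0, 0], [0, 0, 2, 0, 0, 0, 0, 0, 0], [0, 0, 0, 3, 0, 0, 0, 0, 0], [0, 0, 0, 0, 2, 0, 0, 0, 0], [0, 0, 0, 0, 0, 1, 0, 0, 0], [0, 0, 0, 0, 0, 0, 2, 0, 0], [0, 0, 0, 0, 0, 0, 0, 1, 0], [0, 0, 0, 0, 0, 0, 0, 0, 3]],
  [[1, 0, 0, 0, 0, 0, 0, 0, 0], [0, 2, 0, 0, 0, 0, 0, 0, 0], [0, 0, 3, 0, 0, 0, 0, 0, 0], [0, 0, 0, 2, 0, 0, 0, 0, 0], [0, 0, 0, 0, 3, 0, 0, 0, 0], [0, 0, 0, 0, 0, 1, 0, 0, 0], [0, 0, 0, 0, 0, 0, 3, 0, 0], [0, 0, 0, 0, 0, 0, 0, 1, 0], [0, 0, 0, 0, 0, 0, 0, 0, 2]],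
  [[1, 0, 0, 0, 0, 0, 0, 0, 0], [0, 2, 0, 0, 0, 0, 0, 0, 0], [0, 0, 2, 0, 0, 0, 0, 0, 0], [0, 0, 0, 2, 0, 0, 0, 0, 0], [0, 0, 0, 0, 3, 0, 0, 0, 0], [0, 0, 0, 0, 0, 3, 0, 0, 0], [0, 0, 0, 0, 0, 0, 2, 0, 0], [0, 0, 0, 0, 0, 0, 0, 3, 0], [0, 0, 0, 0, 0, 0, 0, 0, 3]],
  [[1, 0, 0, 0, 0, 0, 0, 0, 0], [0, 3, 0, 0, 0, 0, 0, 0, 0], [0, 0, 3, 0, 0, 0, 0, 0, 0], [0, 0, 0, 3, 0, 0, 0, 0, 0], [0, 0, 0, 0, 2, 0, 0, 0, 0], [0, 0, 0, 0, 0, 2, 0, 0, 0], [0, 0, 0, 0, 0, 0, 3, 0, 0], [0, 0, 0, 0, 0, 0, 0, 2, 0], [0, 0, 0, 0, 0, 0, 0, 0, 2]],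
  [[2, 0, 0, 0, 0, 0, 0, 0, 0], [0, 1, 0, 0, 0, 0, 0, 0, 0], [0, 0, 2, 0, 0, 0, 0, 0, 0], [0, 0, 0, 3, 0, 0, 0, 0, 0], [0, 0, 0, 0, 2, 0, 0, 0, 0], [0, 0, 0, 0, 0, 3, 0, 0, 0], [0, 0, 0, 0, 0, 0, 3, 0, 0], [0, 0, 0, 0, 0, 0, 0, 2, 0], [0, 0, 0, 0, 0, 0, 0, 0, 3]],
  [[3, 0, 0, 0, 0, 0, 0, 0, 0], [0, 1, 0, 0, 0, 0, 0, 0, 0], [0, 0, 3, 0, 0, 0, 0, 0, 0], [0, 0, 0, 2, 0, 0, 0, 0, 0], [0, 0, 0, 0, 3, 0, 0, 0, 0], [0, 0, 0, 0, 0, 2, 0, 0, 0], [0, 0, 0, 0, 0, 0, 2, 0, 0], [0, 0, 0, 0, 0, 0, 0, 3, 0], [0, 0, 0, 0, 0, 0, 0, 0, 2]],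
  [[2, 0, 0, 0, 0, 0, 0, 0, 0], [0, 2, 0, 0, 0, 0, 0, 0, 0], [0, 0, 1, 0, 0, 0, 0, 0, 0], [0, 0, 0, 3, 0, 0, 0, 0, 0], [0, 0, 0, 0, 3, 0, 0, 0, 0], [0, 0, 0, 0, 0, 2, 0, 0, 0], [0, 0, 0, 0, 0, 0, 3, 0, 0], [0, 0, 0, 0, 0, 0, 0, 3, 0], [0, 0, 0, 0, 0, 0, 0, 0, 2]],
  [[3, 0, 0, 0, 0, 0, 0, 0, 0], [0, 3, 0, 0, 0, 0, 0, 0, 0], [0, 0, 1, 0, 0, 0, 0, 0, 0], [0, 0, 0, 2, 0, 0, 0, 0, 0], [0, 0, 0, 0, 2, 0, 0, 0, 0], [0, 0, 0, 0, 0, 3, 0, 0, 0], [0, 0, 0, 0, 0, 0, 2, 0, 0], [0, 0, 0, 0, 0, 0, 0, 2, 0], [0, 0, 0, 0, 0, 0, 0, 0, 3]],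
  [[2, 0, 0, 0, 0, 0, 0, 0, 0], [0, 3, 0, 0, 0, 0, 0, 0, 0], [0, 0, 3, 0, 0, 0, 0, 0, 0], [0, 0, 0, 1, 0, 0, 0, 0, 0], [0, 0, 0, 0, 2, 0, 0, 0, 0], [0, 0, 0, 0, 0, 2, 0, 0, 0], [0, 0, 0, 0, 0, 0, 2, 0, 0], [0, 0, 0, 0, 0, 0, 0, 3, 0], [0, 0, 0, 0, 0, 0, 0, 0, 3]],
  [[3, 0, 0, 0, 0, 0, 0, 0, 0], [0, 2, 0, 0, 0, 0, 0, 0, 0], [0, 0, 2, 0, 0, 0, 0, 0, 0], [0, 0, 0, 1, 0, 0, 0, 0, 0], [0, 0, 0, 0, 3, 0, 0, 0, 0], [0, 0, 0, 0, 0, 3, 0, 0, 0], [0, 0, 0, 0, 0, 0, 3, 0, 0], [0, 0, 0, 0, 0, 0, 0, 2, 0], [0, 0, 0, 0, 0, 0, 0, 0, 2]],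
  [[3, 0, 0, 0, 0, 0, 0, 0, 0], [0, 2, 0, 0, 0, 0, 0, 0, 0], [0, 0, 3, 0, 0, 0, 0, 0, 0], [0, 0, 0, 2, 0, 0, 0, 0, 0], [0, 0, 0, 0, 1, 0, 0, 0, 0], [0, 0, 0, 0, 0, 2, 0, 0, 0], [0, 0, 0, 0, 0, 0, 3, 0, 0], [0, 0, 0, 0, 0, 0, 0, 2, 0], [0, 0, 0, 0, 0, 0, 0, 0, 3]],
  [[2, 0, 0, 0, 0, 0, 0, 0, 0], [0, 3, 0, 0, 0, 0, 0, 0, 0], [0, 0, 2, 0, 0, 0, 0, 0, 0], [0, 0, 0, 3, 0, 0, 0, 0, 0], [0, 0, 0, 0, 1, 0, 0, 0, 0], [0, 0, 0, 0, 0, 3, 0, 0, 0], [0, 0, 0, 0, 0, 0, 2, 0, 0], [0, 0, 0, 0, 0, 0, 0, 3, 0], [0, 0, 0, 0, 0, 0, 0, 0, 2]],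
  [[3, 0, 0, 0, 0, 0, 0, 0, 0], [0, 3, 0, 0, 0, 0, 0, 0, 0], [0, 0, 2, 0, 0, 0, 0, 0, 0], [0, 0, 0, 2, 0, 0, 0, 0, 0], [0, 0, 0, 0, 2, 0, 0, 0, 0], [0, 0, 0, 0, 0, 1, 0, 0, 0], [0, 0, 0, 0, 0, 0, 3, 0, 0], [0, 0, 0, 0, 0, 0, 0, 3, 0], [0, 0, 0, 0, 0, 0, 0, 0, 2]],
  [[2, 0, 0, 0, 0, 0, 0, 0, 0], [0, 2, 0, 0, 0, 0, 0, 0, 0], [0, 0, 3, 0, 0, 0, 0, 0, 0], [0, 0, 0, 3, 0, 0, 0, 0, 0], [0, 0, 0, 0, 3, 0, 0, 0, 0], [0, 0, 0, 0, 0, 1, 0, 0, 0], [0, 0, 0, 0, 0, 0, 2, 0, 0], [0, 0, 0, 0, 0, 0, 0, 2, 0], [0, 0, 0, 0, 0, 0, 0, 0, 3]],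
  [[2, 0, 0, 0, 0, 0, 0, 0, 0], [0, 3, 0, 0, 0, 0, 0, 0, 0], [0, 0, 3, 0, 0, 0, 0, 0, 0], [0, 0, 0, 2, 0, 0, 0, 0, 0], [0, 0, 0, 0, 3, 0, 0, 0, 0], [0, 0, 0, 0, 0, 3, 0, 0, 0], [0, 0, 0, 0, 0, 0, 1, 0, 0], [0, 0, 0, 0, 0, 0, 0, 2, 0], [0, 0, 0, 0, 0, 0, 0, 0, 2]],
  [[3, 0, 0, 0, 0, 0, 0, 0, 0], [0, 2, 0, 0, 0, 0, 0, 0, 0], [0, 0, 2, 0, 0, 0, 0, 0, 0], [0, 0, 0, 3, 0, 0, 0, 0, 0], [0, 0, 0, 0, 2, 0, 0, 0, 0], [0, 0, 0, 0, 0, 2, 0, 0, 0], [0, 0, 0, 0, 0, 0, 1, 0, 0], [0, 0, 0, 0, 0, 0, 0, 3, 0], [0, 0, 0, 0, 0, 0, 0, 0, 3]],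
  [[3, 0, 0, 0, 0, 0, 0, 0, 0], [0, 2, 0, 0, 0, 0, 0, 0, 0], [0, 0, 3, 0, 0, 0, 0, 0, 0], [0, 0, 0, 3, 0, 0, 0, 0, 0], [0, 0, 0, 0, 2, 0, 0, 0, 0], [0, 0, 0, 0, 0, 3, 0, 0, 0], [0, 0, 0, 0, 0, 0, 2, 0, 0], [0, 0, 0, 0, 0, 0, 0, 1, 0], [0, 0, 0, 0, 0, 0, 0, 0, 2]],
  [[2, 0, 0, 0, 0, 0, 0, 0, 0], [0, 3, 0, 0, 0, 0, 0, 0, 0], [0, 0, 2, 0, 0, 0, 0, 0, 0], [0, 0, 0, 2, 0, 0, 0, 0, 0], [0, 0, 0, 0, 3, 0, 0, 0, 0], [0, 0, 0, 0, 0, 2, 0, 0, 0], [0, 0, 0, 0, 0, 0, 3, 0, 0], [0, 0, 0, 0, 0, 0, 0, 1, 0], [0, 0, 0, 0, 0, 0, 0, 0, 3]],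
  [[3, 0, 0, 0, 0, 0, 0, 0, 0], [0, 3, 0, 0, 0, 0, 0, 0, 0], [0, 0, 2, 0, 0, 0, 0, 0, 0], [0, 0, 0, 3, 0, 0, 0, 0, 0], [0, 0, 0, 0, 3, 0, 0, 0, 0], [0, 0, 0, 0, 0, 2, 0, 0, 0], [0, 0, 0, 0, 0, 0, 2, 0, 0], [0, 0, 0, 0, 0, 0, 0, 2, 0], [0, 0, 0, 0, 0, 0, 0, 0, 1]],
  [[2, 0, 0, 0, 0, 0, 0, 0, 0], [0, 2, 0, 0, 0, 0, 0, 0, 0], [0, 0, 3, 0, 0, 0, 0, 0, 0], [0, 0, 0, 2, 0, 0, 0, 0, 0], [0, 0, 0, 0, 2, 0, 0, 0, 0], [0, 0, 0, 0, 0, 3, 0, 0, 0], [0, 0, 0, 0, 0, 0, 3, 0, 0], [0, 0, 0, 0, 0, 0, 0, 3, 0], [0, 0, 0, 0, 0, 0, 0, 0, 1]],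
  [[1, 0, 0, 0, 0, 0, 0, 0, 0], [0, 1, 0, 0, 0, 0, 0, 0, 0], [0, 0, 1, 0, 0, 0, 0, 0, 0], [0, 0, 0, 1, 0, 0, 0, 0, 0], [0, 0, 0, 0, 1, 0, 0, 0, 0], [0, 0, 0, 0, 0, 1, 0, 0, 0], [0, 0, 0, 0, 0, 0, 1, 0, 0], [0, 0, 0, 0, 0, 0, 0, 1, 0], [0, 0, 0, 0, 0, 0, 0, 0, 1]],
  [[1, 0, 0, 0, 0, 0, 0, 0, 0], [0, 1, 0, 0, 0, 0, 0, 0, 0], [0, 0, 1, 0, 0, 0, 0, 0, 0], [0, 0, 0, 1, 0, 0, 0, 0, 0], [0, 0, 0, 0, 1, 0, 0, 0, 0], [0, 0, 0, 0, 0, 1, 0, 0, 0], [0, 0, 0, 0, 0, 0, 1, 0, 0], [0, 0, 0, 0, 0, 0, 0, 1, 0], [0, 0, 0, 0, 0, 0, 0, 0, 1]],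
  [[0, 0, 1, 0, 0, 0, 0, 0, 0], [1, 0, 0, 0, 0, 0, 0, 0, 0], [0, 1, 0, 0, 0, 0, 0, 0, 0], [0, 0, 0, 0, 0, 1, 0, 0, 0], [0, 0, 0, 1, 0, 0, 0, 0, 0], [0, 0, 0, 0, 3, 0, 0, 0, 0], [0, 0, 0, 0, 0, 0, 0, 0, 1], [0, 0, 0, 0, 0, 0, 1, 0, 0], [0, 0, 0, 0, 0, 0, 0, 2, 0]],
  [[0, 1, 0, 0, 0, 0, 0, 0, 0], [0, 0, 1, 0, 0, 0, 0, 0, 0], [1, 0, 0, 0, 0, 0, 0, 0, 0], [0, 0, 0, 0, 1, 0, 0, 0, 0], [0, 0, 0, 0, 0, 2, 0, 0, 0], [0, 0, 0, 1, 0, 0, 0, 0, 0], [0, 0, 0, 0, 0, 0, 0, 1, 0], [0, 0, 0, 0, 0, 0, 0, 0, 3], [0, 0, 0, 0, 0, 0, 1, 0, 0]],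
  [[0, 1, 0, 0, 0, 0, 0, 0, 0], [0, 0, 1, 0, 0, 0, 0, 0, 0], [1, 0, 0, 0, 0, 0, 0, 0, 0], [0, 0, 0, 0, 1, 0, 0, 0, 0], [0, 0, 0, 0, 0, 2, 0, 0, 0], [0, 0, 0, 1, 0, 0, 0, 0, 0], [0, 0, 0, 0, 0, 0, 0, 1, 0], [0, 0, 0, 0, 0, 0, 0, 0, 3], [0, 0, 0, 0, 0, 0, 1, 0, 0]],
  [[0, 0, 1, 0, 0, 0, 0, 0, 0], [1, 0, 0, 0, 0, 0, 0, 0, 0], [0, 1, 0, 0, 0, 0, 0, 0, 0], [0, 0, 0, 0, 0, 1, 0, 0, 0], [0, 0, 0, 1, 0, 0, 0, 0, 0], [0, 0, 0, 0, 3, 0, 0, 0, 0], [0, 0, 0, 0, 0, 0, 0, 0, 1], [0, 0, 0, 0, 0, 0, 1, 0, 0], [0, 0, 0, 0, 0, 0, 0, 2, 0]],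
  [[0, 0, 0, 0, 0, 0, 1, 0, 0], [0, 0, 0, 0, 0, 0, 0, 1, 0], [0, 0, 0, 0, 0, 0, 0, 0, 1], [1, 0, 0, 0, 0, 0, 0, 0, 0], [0, 1, 0, 0, 0, 0, 0, 0, 0], [0, 0, 1, 0, 0, 0, 0, 0, 0], [0, 0, 0, 1, 0, 0, 0, 0, 0], [0, 0, 0, 0, 2, 0, 0, 0, 0], [0, 0, 0, 0, 0, 3, 0, 0, 0]],
  [[0, 0, 0, 1, 0, 0, 0, 0, 0], [0, 0, 0, 0, 1, 0, 0, 0, 0], [0, 0, 0, 0, 0, 1, 0, 0, 0], [0, 0, 0, 0, 0, 0, 1, 0, 0], [0, 0, 0, 0, 0, 0, 0, 3, 0], [0, 0, 0, 0, 0, 0, 0, 0, 2], [1, 0, 0, 0, 0, 0, 0, 0, 0], [0, 1, 0, 0, 0, 0, 0, 0, 0], [0, 0, 1, 0, 0, 0, 0, 0, 0]],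
  [[0, 0, 0, 0, 0, 0, 0, 0, 1], [0, 0, 0, 0, 0, 0, 3, 0, 0], [0, 0, 0, 0, 0, 0, 0, 1, 0], [0, 0, 2, 0, 0, 0, 0, 0, 0], [1, 0, 0, 0, 0, 0, 0, 0, 0], [0, 1, 0, 0, 0, 0, 0, 0, 0], [0, 0, 0, 0, 0, 1, 0, 0, 0], [0, 0, 0, 1, 0, 0, 0, 0, 0], [0, 0, 0, 0, 1, 0, 0, 0, 0]],
  [[0, 0, 0, 0, 1, 0, 0, 0, 0], [0, 0, 0, 0, 0, 1, 0, 0, 0], [0, 0, 0, 3, 0, 0, 0, 0, 0], [0, 0, 0, 0, 0, 0, 0, 1, 0], [0, 0, 0, 0, 0, 0, 0, 0, 1], [0, 0, 0, 0, 0, 0, 1, 0, 0], [0, 2, 0, 0, 0, 0, 0, 0, 0], [0, 0, 1, 0, 0, 0, 0, 0, 0], [1, 0, 0, 0, 0, 0, 0, 0, 0]],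
  [[0, 0, 0, 0, 0, 0, 0, 1, 0], [0, 0, 0, 0, 0, 0, 0, 0, 1], [0, 0, 0, 0, 0, 0, 2, 0, 0], [0, 3, 0, 0, 0, 0, 0, 0, 0], [0, 0, 1, 0, 0, 0, 0, 0, 0], [1, 0, 0, 0, 0, 0, 0, 0, 0], [0, 0, 0, 0, 1, 0, 0, 0, 0], [0, 0, 0, 0, 0, 1, 0, 0, 0], [0, 0, 0, 1, 0, 0, 0, 0, 0]],
  [[0, 0, 0, 0, 0, 1, 0, 0, 0], [0, 0, 0, 2, 0, 0, 0, 0, 0], [0, 0, 0, 0, 1, 0, 0, 0, 0], [0, 0, 0, 0, 0, 0, 0, 0, 1], [0, 0, 0, 0, 0, 0, 1, 0, 0], [0, 0, 0, 0, 0, 0, 0, 1, 0], [0, 0, 3, 0, 0, 0, 0, 0, 0], [1, 0, 0, 0, 0, 0, 0, 0, 0], [0, 1, 0, 0, 0, 0, 0, 0, 0]],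
  [[0, 0, 0, 1, 0, 0, 0, 0, 0], [0, 0, 0, 0, 1, 0, 0, 0, 0], [0, 0, 0, 0, 0, 1, 0, 0, 0], [0, 0, 0, 0, 0, 0, 1, 0, 0], [0, 0, 0, 0, 0, 0, 0, 3, 0], [0, 0, 0, 0, 0, 0, 0, 0, 2], [1, 0, 0, 0, 0, 0, 0, 0, 0], [0, 1, 0, 0, 0, 0, 0, 0, 0], [0, 0, 1, 0, 0, 0, 0, 0, 0]],
  [[0, 0, 0, 0, 0, 0, 1, 0, 0], [0, 0, 0, 0, 0, 0, 0, 1, 0], [0, 0, 0, 0, 0, 0, 0, 0, 1], [1, 0, 0, 0, 0, 0, 0, 0, 0], [0, 1, 0, 0, 0, 0, 0, 0, 0], [0, 0, 1, 0, 0, 0, 0, 0, 0], [0, 0, 0, 1, 0, 0, 0, 0, 0], [0, 0, 0, 0, 2, 0, 0, 0, 0], [0, 0, 0, 0, 0, 3, 0, 0, 0]],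
  [[0, 0, 0, 0, 0, 1, 0, 0, 0], [0, 0, 0, 2, 0, 0, 0, 0, 0], [0, 0, 0, 0, 1, 0, 0, 0, 0], [0, 0, 0, 0, 0, 0, 0, 0, 1], [0, 0, 0, 0, 0, 0, 1, 0, 0], [0, 0, 0, 0, 0, 0, 0, 1, 0], [0, 0, 3, 0, 0, 0, 0, 0, 0], [1, 0, 0, 0, 0, 0, 0, 0, 0], [0, 1, 0, 0, 0, 0, 0, 0, 0]],
  [[0, 0, 0, 0, 0, 0, 0, 1, 0], [0, 0, 0, 0, 0, 0, 0, 0, 1], [0, 0, 0, 0, 0, 0, 2, 0, 0], [0, 3, 0, 0, 0, 0, 0, 0, 0], [0, 0, 1, 0, 0, 0, 0, 0, 0], [1, 0, 0, 0, 0, 0, 0, 0, 0], [0, 0, 0, 0, 1, 0, 0, 0, 0], [0, 0, 0, 0, 0, 1, 0, 0, 0], [0, 0, 0, 1, 0, 0, 0, 0, 0]],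
  [[0, 0, 0, 0, 1, 0, 0, 0, 0], [0, 0, 0, 0, 0, 1, 0, 0, 0], [0, 0, 0, 3, 0, 0, 0, 0, 0], [0, 0, 0, 0, 0, 0, 0, 1, 0], [0, 0, 0, 0, 0, 0, 0, 0, 1], [0, 0, 0, 0, 0, 0, 1, 0, 0], [0, 2, 0, 0, 0, 0, 0, 0, 0], [0, 0, 1, 0, 0, 0, 0, 0, 0], [1, 0, 0, 0, 0, 0, 0, 0, 0]],
  [[0, 0, 0, 0, 0, 0, 0, 0, 1], [0, 0, 0, 0, 0, 0, 3, 0, 0], [0, 0, 0, 0, 0, 0, 0, 1, 0], [0, 0, 2, 0, 0, 0, 0, 0, 0], [1, 0, 0, 0, 0, 0, 0, 0, 0], [0, 1, 0, 0, 0, 0, 0, 0, 0], [0, 0, 0, 0, 0, 1, 0, 0, 0], [0, 0, 0, 1, 0, 0, 0, 0, 0], [0, 0, 0, 0, 1, 0, 0, 0, 0]],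
  [[1, 0, 0, 0, 0, 0, 0, 0, 0], [0, 1, 0, 0, 0, 0, 0, 0, 0], [0, 0, 1, 0, 0, 0, 0, 0, 0], [0, 0, 0, 1, 0, 0, 0, 0, 0], [0, 0, 0, 0, 1, 0, 0, 0, 0], [0, 0, 0, 0, 0, 1, 0, 0, 0], [0, 0, 0, 0, 0, 0, 1, 0, 0], [0, 0, 0, 0, 0, 0, 0, 1, 0], [0, 0, 0, 0, 0, 0, 0, 0, 1]],
  [[1, 0, 0, 0, 0, 0, 0, 0, 0], [0, 1, 0, 0, 0, 0, 0, 0, 0], [0, 0, 1, 0, 0, 0, 0, 0, 0], [0, 0, 0, 1, 0, 0, 0, 0, 0], [0, 0, 0, 0, 1, 0, 0, 0, 0], [0, 0, 0, 0, 0, 1, 0, 0, 0], [0, 0, 0, 0, 0, 0, 1, 0, 0], [0, 0, 0, 0, 0, 0, 0, 1, 0], [0, 0, 0, 0, 0, 0, 0, 0, 1]],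
  [[1, 0, 0, 0, 0, 0, 0, 0, 0], [0, 0, 0, 1, 0, 0, 0, 0, 0], [0, 0, 0, 0, 0, 0, 1, 0, 0], [0, 0, 1, 0, 0, 0, 0, 0, 0], [0, 0, 0, 0, 0, 1, 0, 0, 0], [0, 0, 0, 0, 0, 0, 0, 0, 1], [0, 1, 0, 0, 0, 0, 0, 0, 0], [0, 0, 0, 0, 1, 0, 0, 0, 0], [0, 0, 0, 0, 0, 0, 0, 1, 0]],
  [[1, 0, 0, 0, 0, 0, 0, 0, 0], [0, 0, 0, 0, 0, 0, 1, 0, 0], [0, 0, 0, 1, 0, 0, 0, 0, 0], [0, 1, 0, 0, 0, 0, 0, 0, 0], [0, 0, 0, 0, 0, 0, 0, 1, 0], [0, 0, 0, 0, 1, 0, 0, 0, 0], [0, 0, 1, 0, 0, 0, 0, 0, 0], [0, 0, 0, 0, 0, 0, 0, 0, 1], [0, 0, 0, 0, 0, 1, 0, 0, 0]],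
  [[1, 0, 0, 0, 0, 0, 0, 0, 0], [0, 0, 0, 0, 0, 0, 1, 0, 0], [0, 0, 0, 1, 0, 0, 0, 0, 0], [0, 1, 0, 0, 0, 0, 0, 0, 0], [0, 0, 0, 0, 0, 0, 0, 1, 0], [0, 0, 0, 0, 1, 0, 0, 0, 0], [0, 0, 1, 0, 0, 0, 0, 0, 0], [0, 0, 0, 0, 0, 0, 0, 0, 1], [0, 0, 0, 0, 0, 1, 0, 0, 0]],
  [[1, 0, 0, 0, 0, 0, 0, 0, 0], [0, 0, 0, 1, 0, 0, 0, 0, 0], [0, 0, 0, 0, 0, 0, 1, 0, 0], [0, 0, 1, 0, 0, 0, 0, 0, 0], [0, 0, 0, 0, 0, 1, 0, 0, 0], [0, 0, 0, 0, 0, 0, 0, 0, 1], [0, 1, 0, 0, 0, 0, 0, 0, 0], [0, 0, 0, 0, 1, 0, 0, 0, 0], [0, 0, 0, 0, 0, 0, 0, 1, 0]],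
  [[1, 0, 0, 0, 0, 0, 0, 0, 0], [0, 1, 0, 0, 0, 0, 0, 0, 0], [0, 0, 1, 0, 0, 0, 0, 0, 0], [0, 0, 0, 1, 0, 0, 0, 0, 0], [0, 0, 0, 0, 1, 0, 0, 0, 0], [0, 0, 0, 0, 0, 1, 0, 0, 0], [0, 0, 0, 0, 0, 0, 1, 0, 0], [0, 0, 0, 0, 0, 0, 0, 1, 0], [0, 0, 0, 0, 0, 0, 0, 0, 1]],
  [[1, 0, 0, 0, 0, 0, 0, 0, 0], [0, 1, 0, 0, 0, 0, 0, 0, 0], [0, 0, 1, 0, 0, 0, 0, 0, 0], [0, 0, 0, 1, 0, 0, 0, 0, 0], [0, 0, 0, 0, 1, 0, 0, 0, 0], [0, 0, 0, 0, 0, 1, 0, 0, 0], [0, 0, 0, 0, 0, 0, 1, 0, 0], [0, 0, 0, 0, 0, 0, 0, 1, 0], [0, 0, 0, 0, 0, 0, 0, 0, 1]],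
  [[1, 0, 0, 0, 0, 0, 0, 0, 0], [0, 0, 0, 0, 0, 0, 0, 0, 1], [0, 0, 0, 0, 1, 0, 0, 0, 0], [0, 0, 0, 0, 0, 0, 0, 1, 0], [0, 0, 0, 1, 0, 0, 0, 0, 0], [0, 0, 1, 0, 0, 0, 0, 0, 0], [0, 0, 0, 0, 0, 1, 0, 0, 0], [0, 1, 0, 0, 0, 0, 0, 0, 0], [0, 0, 0, 0, 0, 0, 1, 0, 0]],
  [[1, 0, 0, 0, 0, 0, 0, 0, 0], [0, 0, 0, 0, 0, 0, 0, 1, 0], [0, 0, 0, 0, 0, 1, 0, 0, 0], [0, 0, 0, 0, 1, 0, 0, 0, 0], [0, 0, 1, 0, 0, 0, 0, 0, 0], [0, 0, 0, 0, 0, 0, 1, 0, 0], [0, 0, 0, 0, 0, 0, 0, 0, 1], [0, 0, 0, 1, 0, 0, 0, 0, 0], [0, 1, 0, 0, 0, 0, 0, 0, 0]],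
  [[1, 0, 0, 0, 0, 0, 0, 0, 0], [0, 0, 0, 0, 0, 1, 0, 0, 0], [0, 0, 0, 0, 0, 0, 0, 1, 0], [0, 0, 0, 0, 0, 0, 0, 0, 1], [0, 1, 0, 0, 0, 0, 0, 0, 0], [0, 0, 0, 1, 0, 0, 0, 0, 0], [0, 0, 0, 0, 1, 0, 0, 0, 0], [0, 0, 0, 0, 0, 0, 1, 0, 0], [0, 0, 1, 0, 0, 0, 0, 0, 0]],
  [[1, 0, 0, 0, 0, 0, 0, 0, 0], [0, 0, 0, 0, 1, 0, 0, 0, 0], [0, 0, 0, 0, 0, 0, 0, 0, 1], [0, 0, 0, 0, 0, 1, 0, 0, 0], [0, 0, 0, 0, 0, 0, 1, 0, 0], [0, 1, 0, 0, 0, 0, 0, 0, 0], [0, 0, 0, 0, 0, 0, 0, 1, 0], [0, 0, 1, 0, 0, 0, 0, 0, 0], [0, 0, 0, 1, 0, 0, 0, 0, 0]],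
  [[1, 0, 0, 0, 0, 0, 0, 0, 0], [0, 0, 1, 0, 0, 0, 0, 0, 0], [0, 1, 0, 0, 0, 0, 0, 0, 0], [0, 0, 0, 0, 0, 0, 1, 0, 0], [0, 0, 0, 0, 0, 0, 0, 0, 1], [0, 0, 0, 0, 0, 0, 0, 1, 0], [0, 0, 0, 1, 0, 0, 0, 0, 0], [0, 0, 0, 0, 0, 1, 0, 0, 0], [0, 0, 0, 0, 1, 0, 0, 0, 0]],
  [[1, 0, 0, 0, 0, 0, 0, 0, 0], [0, 0, 1, 0, 0, 0, 0, 0, 0], [0, 1, 0, 0, 0, 0, 0, 0, 0], [0, 0, 0, 0, 0, 0, 1, 0, 0], [0, 0, 0, 0, 0, 0, 0, 0, 1], [0, 0, 0, 0, 0, 0, 0, 1, 0], [0, 0, 0, 1, 0, 0, 0, 0, 0], [0, 0, 0, 0, 0, 1, 0, 0, 0], [0, 0, 0, 0, 1, 0, 0, 0, 0]],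
  [[1, 0, 0, 0, 0, 0, 0, 0, 0], [0, 0, 0, 0, 0, 0, 0, 1, 0], [0, 0, 0, 0, 0, 1, 0, 0, 0], [0, 0, 0, 0, 1, 0, 0, 0, 0], [0, 0, 1, 0, 0, 0, 0, 0, 0], [0, 0, 0, 0, 0, 0, 1, 0, 0], [0, 0, 0, 0, 0, 0, 0, 0, 1], [0, 0, 0, 1, 0, 0, 0, 0, 0], [0, 1, 0, 0, 0, 0, 0, 0, 0]],
  [[1, 0, 0, 0, 0, 0, 0, 0, 0], [0, 0, 0, 0, 0, 0, 0, 0, 1], [0, 0, 0, 0, 1, 0, 0, 0, 0], [0, 0, 0, 0, 0, 0, 0, 1, 0], [0, 0, 0, 1, 0, 0, 0, 0, 0], [0, 0, 1, 0, 0, 0, 0, 0, 0], [0, 0, 0, 0, 0, 1, 0, 0, 0], [0, 1, 0, 0, 0, 0, 0, 0, 0], [0, 0, 0, 0, 0, 0, 1, 0, 0]],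
  [[1, 0, 0, 0, 0, 0, 0, 0, 0], [0, 0, 0, 0, 1, 0, 0, 0, 0], [0, 0, 0, 0, 0, 0, 0, 0, 1], [0, 0, 0, 0, 0, 1, 0, 0, 0], [0, 0, 0, 0, 0, 0, 1, 0, 0], [0, 1, 0, 0, 0, 0, 0, 0, 0], [0, 0, 0, 0, 0, 0, 0, 1, 0], [0, 0, 1, 0, 0, 0, 0, 0, 0], [0, 0, 0, 1, 0, 0, 0, 0, 0]],
  [[1, 0, 0, 0, 0, 0, 0, 0, 0], [0, 0, 0, 0, 0, 1, 0, 0, 0], [0, 0, 0, 0, 0, 0, 0, 1, 0], [0, 0, 0, 0, 0, 0, 0, 0, 1], [0, 1, 0, 0, 0, 0, 0, 0, 0], [0, 0, 0, 1, 0, 0, 0, 0, 0], [0, 0, 0, 0, 1, 0, 0, 0, 0], [0, 0, 0, 0, 0, 0, 1, 0, 0], [0, 0, 1, 0, 0, 0, 0, 0, 0]],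
  [[1, 0, 0, 0, 0, 0, 0, 0, 0], [0, 1, 0, 0, 0, 0, 0, 0, 0], [0, 0, 1, 0, 0, 0, 0, 0, 0], [0, 0, 0, 1, 0, 0, 0, 0, 0], [0, 0, 0, 0, 1, 0, 0, 0, 0], [0, 0, 0, 0, 0, 1, 0, 0, 0], [0, 0, 0, 0, 0, 0, 1, 0, 0], [0, 0, 0, 0, 0, 0, 0, 1, 0], [0, 0, 0, 0, 0, 0, 0, 0, 1]],
  [[1, 0, 0, 0, 0, 0, 0, 0, 0], [0, 1, 0, 0, 0, 0, 0, 0, 0], [0, 0, 1, 0, 0, 0, 0, 0, 0], [0, 0, 0, 1, 0, 0, 0, 0, 0], [0, 0, 0, 0, 1, 0, 0, 0, 0], [0, 0, 0, 0, 0, 1, 0, 0, 0], [0, 0, 0, 0, 0, 0, 1, 0, 0], [0, 0, 0, 0, 0, 0, 0, 1, 0], [0, 0, 0, 0, 0, 0, 0, 0, 1]],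
  [[1, 0, 0, 0, 0, 0, 0, 0, 0], [0, 1, 1, 0, 0, 0, 1, 0, 0], [0, 1, 1, 1, 0, 0, 0, 0, 0], [0, 0, 1, 1, 0, 0, 1, 0, 0], [0, 0, 0, 0, 1, 1, 0, 1, 0], [0, 0, 0, 0, 1, 0, 0, 1, 1], [0, 1, 0, 1, 0, 0, 1, 0, 0], [0, 0, 0, 0, 1, 1, 0, 0, 1], [0, 0, 0, 0, 0, 1, 0, 1, 1]],
  [[1, 0, 0, 0, 0, 0, 0, 0, 0], [0, 1, 1, 0, 0, 0, 1, 0, 0], [0, 1, 1, 1, 0, 0, 0, 0, 0], [0, 0, 1, 1, 0, 0, 1, 0, 0], [0, 0, 0, 0, 1, 1, 0, 1, 0], [0, 0, 0, 0, 1, 0, 0, 1, 1], [0, 1, 0, 1, 0, 0, 1, 0, 0], [0, 0, 0, 0, 1, 1, 0, 0, 1], [0, 0, 0, 0, 0, 1, 0, 1, 1]],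
  [[1, 0, 0, 0, 0, 0, 0, 0, 0], [0, 1, 1, 1, 0, 0, 0, 0, 0], [0, 1, 1, 0, 0, 0, 1, 0, 0], [0, 1, 0, 1, 0, 0, 1, 0, 0], [0, 0, 0, 0, 0, 1, 0, 1, 1], [0, 0, 0, 0, 1, 1, 0, 0, 1], [0, 0, 1, 1, 0, 0, 1, 0, 0], [0, 0, 0, 0, 1, 0, 0, 1, 1], [0, 0, 0, 0, 1, 1, 0, 1, 0]],
  [[1, 0, 0, 0, 0, 0, 0, 0, 0], [0, 1, 1, 1, 0, 0, 0, 0, 0], [0, 1, 1, 0, 0, 0, 1, 0, 0], [0, 1, 0, 1, 0, 0, 1, 0, 0], [0, 0, 0, 0, 0, 1, 0, 1, 1], [0, 0, 0, 0, 1, 1, 0, 0, 1], [0, 0, 1, 1, 0, 0, 1, 0, 0], [0, 0, 0, 0, 1, 0, 0, 1, 1], [0, 0, 0, 0, 1, 1, 0, 1, 0]],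
  [[1, 0, 0, 0, 0, 0, 0, 0, 0], [0, 1, 0, 1, 0, 0, 1, 0, 0], [0, 0, 1, 1, 0, 0, 1, 0, 0], [0, 1, 1, 0, 0, 0, 1, 0, 0], [0, 0, 0, 0, 1, 1, 0, 0, 1], [0, 0, 0, 0, 1, 1, 0, 1, 0], [0, 1, 1, 1, 0, 0, 0, 0, 0], [0, 0, 0, 0, 0, 1, 0, 1, 1], [0, 0, 0, 0, 1, 0, 0, 1, 1]],
  [[1, 0, 0, 0, 0, 0, 0, 0, 0], [0, 1, 0, 1, 0, 0, 1, 0, 0], [0, 0, 1, 1, 0, 0, 1, 0, 0], [0, 1, 1, 0, 0, 0, 1, 0, 0], [0, 0, 0, 0, 1, 1, 0, 0, 1], [0, 0, 0, 0, 1, 1, 0, 1, 0], [0, 1, 1, 1, 0, 0, 0, 0, 0], [0, 0, 0, 0, 0, 1, 0, 1, 1], [0, 0, 0, 0, 1, 0, 0, 1, 1]],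
  [[1, 0, 0, 0, 0, 0, 0, 0, 0], [0, 0, 0, 0, 1, 0, 0, 1, 1], [0, 0, 0, 0, 1, 1, 0, 0, 1], [0, 0, 0, 0, 0, 1, 0, 1, 1], [0, 1, 1, 0, 0, 0, 1, 0, 0], [0, 0, 1, 1, 0, 0, 1, 0, 0], [0, 0, 0, 0, 1, 1, 0, 1, 0], [0, 1, 0, 1, 0, 0, 1, 0, 0], [0, 1, 1, 1, 0, 0, 0, 0, 0]],
  [[1, 0, 0, 0, 0, 0, 0, 0, 0], [0, 0, 0, 0, 1, 0, 0, 1, 1], [0, 0, 0, 0, 1, 1, 0, 0, 1], [0, 0, 0, 0, 0, 1, 0, 1, 1], [0, 1, 1, 0, 0, 0, 1, 0, 0], [0, 0, 1, 1, 0, 0, 1, 0, 0], [0, 0, 0, 0, 1, 1, 0, 1, 0], [0, 1, 0, 1, 0, 0, 1, 0, 0], [0, 1, 1, 1, 0, 0, 0, 0, 0]],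
  [[1, 0, 0, 0, 0, 0, 0, 0, 0], [0, 0, 0, 0, 1, 1, 0, 1, 0], [0, 0, 0, 0, 0, 1, 0, 1, 1], [0, 0, 0, 0, 1, 0, 0, 1, 1], [0, 1, 0, 1, 0, 0, 1, 0, 0], [0, 1, 1, 0, 0, 0, 1, 0, 0], [0, 0, 0, 0, 1, 1, 0, 0, 1], [0, 1, 1, 1, 0, 0, 0, 0, 0], [0, 0, 1, 1, 0, 0, 1, 0, 0]],
  [[1, 0, 0, 0, 0, 0, 0, 0, 0], [0, 0, 0, 0, 1, 1, 0, 1, 0], [0, 0, 0, 0, 0, 1, 0, 1, 1], [0, 0, 0, 0, 1, 0, 0, 1, 1], [0, 1, 0, 1, 0, 0, 1, 0, 0], [0, 1, 1, 0, 0, 0, 1, 0, 0], [0, 0, 0, 0, 1, 1, 0, 0, 1], [0, 1, 1, 1, 0, 0, 0, 0, 0], [0, 0, 1, 1, 0, 0, 1, 0, 0]],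
  [[1, 0, 0, 0, 0, 0, 0, 0, 0], [0, 0, 1, 1, 0, 0, 1, 0, 0], [0, 1, 0, 1, 0, 0, 1, 0, 0], [0, 1, 1, 1, 0, 0, 0, 0, 0], [0, 0, 0, 0, 1, 0, 0, 1, 1], [0, 0, 0, 0, 0, 1, 0, 1, 1], [0, 1, 1, 0, 0, 0, 1, 0, 0], [0, 0, 0, 0, 1, 1, 0, 1, 0], [0, 0, 0, 0, 1, 1, 0, 0, 1]],
  [[1, 0, 0, 0, 0, 0, 0, 0, 0], [0, 0, 1, 1, 0, 0, 1, 0, 0], [0, 1, 0, 1, 0, 0, 1, 0, 0], [0, 1, 1, 1, 0, 0, 0, 0, 0], [0, 0, 0, 0, 1, 0, 0, 1, 1], [0, 0, 0, 0, 0, 1, 0, 1, 1], [0, 1, 1, 0, 0, 0, 1, 0, 0], [0, 0, 0, 0, 1, 1, 0, 1, 0], [0, 0, 0, 0, 1, 1, 0, 0, 1]],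
  [[1, 0, 0, 0, 0, 0, 0, 0, 0], [0, 0, 0, 0, 0, 1, 0, 1, 1], [0, 0, 0, 0, 1, 1, 0, 1, 0], [0, 0, 0, 0, 1, 1, 0, 0, 1], [0, 0, 1, 1, 0, 0, 1, 0, 0], [0, 1, 1, 1, 0, 0, 0, 0, 0], [0, 0, 0, 0, 1, 0, 0, 1, 1], [0, 1, 1, 0, 0, 0, 1, 0, 0], [0, 1, 0, 1, 0, 0, 1, 0, 0]],
  [[1, 0, 0, 0, 0, 0, 0, 0, 0], [0, 0, 0, 0, 0, 1, 0, 1, 1], [0, 0, 0, 0, 1, 1, 0, 1, 0], [0, 0, 0, 0, 1, 1, 0, 0, 1], [0, 0, 1, 1, 0, 0, 1, 0, 0], [0, 1, 1, 1, 0, 0, 0, 0, 0], [0, 0, 0, 0, 1, 0, 0, 1, 1], [0, 1, 1, 0, 0, 0, 1, 0, 0], [0, 1, 0, 1, 0, 0, 1, 0, 0]],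
  [[1, 0, 0, 0, 0, 0, 0, 0, 0], [0, 0, 0, 0, 1, 1, 0, 0, 1], [0, 0, 0, 0, 1, 0, 0, 1, 1], [0, 0, 0, 0, 1, 1, 0, 1, 0], [0, 1, 1, 1, 0, 0, 0, 0, 0], [0, 1, 0, 1, 0, 0, 1, 0, 0], [0, 0, 0, 0, 0, 1, 0, 1, 1], [0, 0, 1, 1, 0, 0, 1, 0, 0], [0, 1, 1, 0, 0, 0, 1, 0, 0]],
  [[1, 0, 0, 0, 0, 0, 0, 0, 0], [0, 0, 0, 0, 1, 1, 0, 0, 1], [0, 0, 0, 0, 1, 0, 0, 1, 1], [0, 0, 0, 0, 1, 1, 0, 1, 0], [0, 1, 1, 1, 0, 0, 0, 0, 0], [0, 1, 0, 1, 0, 0, 1, 0, 0], [0, 0, 0, 0, 0, 1, 0, 1, 1], [0, 0, 1, 1, 0, 0, 1, 0, 0], [0, 1, 1, 0, 0, 0, 1, 0, 0]]]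
noncomputable def M1 : List (List (List Nat)) := [[[1, 0, 0, 0, 0, 0, 0, 0, 0], [0, 1, 0, 0, 0, 0, 0, 0, 0], [0, 0, 1, 0, 0, 0, 0, 0, 0], [0, 0, 0, 1, 0, 0, 0, 0, 0], [0, 0, 0, 0, 1, 0, 0, 0, 0], [0, 0, 0, 0, 0, 1, 0, 0, 0], [0, 0, 0, 0, 0, 0, 1, 0, 0], [0, 0, 0, 0, 0, 0, 0, 1, 0], [0, 0, 0, 0, 0, 0, 0, 0, 1]],
  [[0, 1, 3, 2, 3, 2, 2, 1, 0], [1, 1, 2, 1, 3, 0, 2, 1, 0], [2, 3, 1, 1, 0, 2, 1, 0, 2], [3, 1, 1, 0, 3, 3, 3, 2, 0], [2, 2, 0, 2, 1, 2, 1, 3, 0], [3, 0, 3, 2, 3, 1, 3, 0, 1], [3, 3, 1, 2, 1, 2, 1, 0, 0], [1, 1, 0, 3, 2, 0, 0, 0, 3], [0, 0, 3, 0, 0, 1, 0, 2, 0]],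
  [[0, 1, 3, 2, 3, 2, 2, 1, 0], [1, 1, 2, 1, 3, 0, 2, 1, 0], [2, 3, 1, 1, 0, 2, 1, 0, 2], [3, 1, 1, 0, 3, 3, 3, 2, 0], [2, 2, 0, 2, 1, 2, 1, 3, 0], [3, 0, 3, 2, 3, 1, 3, 0, 1], [3, 3, 1, 2, 1, 2, 1, 0, 0], [1, 1, 0, 3, 2, 0, 0, 0, 3], [0, 0, 3, 0, 0, 1, 0, 2, 0]],
  [[0, 0, 0, 1, 1, 3, 0, 1, 1], [2, 1, 2, 1, 3, 1, 2, 2, 2], [0, 3, 2, 2, 2, 0, 1, 3, 3], [1, 1, 3, 2, 2, 3, 2, 2, 3], [1, 2, 3, 3, 2, 0, 0, 3, 2], [3, 2, 0, 2, 0, 0, 1, 0, 2], [0, 3, 1, 3, 0, 1, 2, 2, 3], [0, 0, 2, 3, 2, 1, 3, 1, 2], [2, 1, 2, 2, 3, 0, 2, 0, 1]],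
  [[0, 3, 0, 1, 1, 2, 0, 0, 3], [0, 1, 2, 1, 3, 3, 2, 0, 1], [0, 3, 3, 2, 2, 0, 1, 3, 3], [1, 1, 3, 3, 2, 3, 2, 2, 3], [1, 2, 3, 3, 3, 0, 0, 3, 2], [2, 1, 0, 2, 0, 0, 1, 1, 0], [0, 3, 1, 3, 0, 1, 3, 2, 3], [1, 3, 2, 3, 2, 0, 3, 1, 0], [1, 3, 2, 2, 3, 3, 2, 3, 1]],
  [[0, 0, 3, 1, 2, 1, 3, 2, 3], [0, 0, 1, 0, 3, 1, 2, 0, 1], [2, 1, 1, 1, 0, 3, 1, 0, 1], [1, 0, 1, 1, 1, 3, 1, 0, 3], [3, 2, 0, 1, 1, 1, 0, 3, 3], [1, 1, 2, 2, 1, 1, 3, 1, 3], [2, 3, 1, 1, 0, 2, 1, 1, 0], [3, 0, 0, 0, 2, 1, 1, 0, 1], [2, 1, 1, 2, 2, 2, 0, 1, 0]],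
  [[0, 0, 3, 1, 2, 1, 3, 2, 3], [0, 0, 1, 0, 3, 1, 2, 0, 1], [2, 1, 1, 1, 0, 3, 1, 0, 1], [1, 0, 1, 1, 1, 3, 1, 0, 3], [3, 2, 0, 1, 1, 1, 0, 3, 3], [1, 1, 2, 2, 1, 1, 3, 1, 3], [2, 3, 1, 1, 0, 2, 1, 1, 0], [3, 0, 0, 0, 2, 1, 1, 0, 1], [2, 1, 1, 2, 2, 2, 0, 1, 0]],
  [[0, 1, 2, 1, 1, 1, 2, 0, 2], [1, 1, 0, 0, 2, 3, 3, 1, 3], [3, 0, 1, 0, 1, 0, 0, 1, 3], [1, 0, 0, 1, 2, 2, 2, 0, 0], [1, 3, 1, 3, 1, 0, 2, 0, 1], [1, 2, 0, 3, 0, 1, 2, 1, 2], [3, 2, 0, 3, 3, 3, 0, 1, 2], [0, 1, 1, 0, 0, 1, 1, 1, 0], [3, 2, 2, 0, 1, 3, 3, 0, 1]],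
  [[0, 1, 2, 1, 1, 1, 2, 0, 2], [1, 1, 0, 0, 2, 3, 3, 1, 3], [3, 0, 1, 0, 1, 0, 0, 1, 3], [1, 0, 0, 1, 2, 2, 2, 0, 0], [1, 3, 1, 3, 1, 0, 2, 0, 1], [1, 2, 0, 3, 0, 1, 2, 1, 2], [3, 2, 0, 3, 3, 3, 0, 1, 2], [0, 1, 1, 0, 0, 1, 1, 1, 0], [3, 2, 2, 0, 1, 3, 3, 0, 1]],
  [[1, 3, 3, 3, 1, 3, 2, 1, 1], [3, 3, 3, 1, 0, 0, 3, 1, 2], [0, 0, 2, 0, 1, 2, 3, 0, 3], [3, 1, 2, 0, 1, 2, 2, 0, 1], [1, 3, 0, 3, 3, 2, 1, 2, 0], [2, 1, 2, 3, 0, 3, 2, 2, 0], [0, 0, 0, 1, 3, 2, 2, 0, 3], [0, 1, 1, 2, 3, 0, 3, 1, 3], [0, 1, 1, 3, 1, 3, 3, 0, 3]],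
  [[1, 2, 0, 2, 1, 3, 0, 0, 0], [2, 2, 0, 1, 2, 1, 0, 1, 1], [2, 2, 3, 3, 0, 3, 0, 1, 1], [2, 1, 0, 0, 2, 2, 1, 3, 2], [1, 0, 1, 1, 2, 0, 2, 2, 1], [2, 0, 3, 3, 3, 2, 3, 0, 2], [3, 2, 2, 3, 1, 3, 3, 2, 2], [1, 1, 0, 0, 3, 3, 0, 1, 0], [1, 3, 2, 1, 0, 0, 2, 2, 2]],
  [[1, 1, 3, 1, 0, 0, 2, 3, 2], [1, 1, 2, 3, 2, 1, 3, 3, 1], [2, 3, 0, 1, 0, 0, 1, 0, 1], [1, 2, 1, 1, 1, 1, 3, 2, 2], [0, 3, 0, 1, 1, 2, 3, 1, 3], [0, 1, 0, 1, 3, 0, 0, 1, 3], [3, 2, 1, 2, 2, 0, 0, 2, 3], [2, 2, 0, 3, 1, 1, 3, 0, 2], [3, 1, 1, 3, 2, 2, 2, 3, 1]],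
  [[1, 1, 3, 1, 0, 0, 2, 3, 2], [1, 1, 2, 3, 2, 1, 3, 3, 1], [2, 3, 0, 1, 0, 0, 1, 0, 1], [1, 2, 1, 1, 1, 1, 3, 2, 2], [0, 3, 0, 1, 1, 2, 3, 1, 3], [0, 1, 0, 1, 3, 0, 0, 1, 3], [3, 2, 1, 2, 2, 0, 0, 2, 3], [2, 2, 0, 3, 1, 1, 3, 0, 2], [3, 1, 1, 3, 2, 2, 2, 3, 1]],
  [[0, 1, 2, 0, 3, 1, 0, 0, 3], [1, 1, 0, 0, 0, 0, 1, 3, 3], [3, 0, 1, 0, 1, 0, 0, 1, 3], [0, 0, 0, 1, 1, 0, 3, 3, 1], [2, 0, 1, 1, 0, 1, 0, 0, 1], [1, 0, 0, 0, 1, 1, 2, 0, 2], [0, 1, 0, 2, 0, 3, 0, 2, 1], [0, 2, 1, 2, 0, 0, 3, 0, 3], [2, 2, 2, 1, 1, 3, 1, 2, 1]],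
  [[0, 1, 2, 0, 3, 1, 0, 0, 3], [1, 1, 0, 0, 0, 0, 1, 3, 3], [3, 0, 1, 0, 1, 0, 0, 1, 3], [0, 0, 0, 1, 1, 0, 3, 3, 1], [2, 0, 1, 1, 0, 1, 0, 0, 1], [1, 0, 0, 0, 1, 1, 2, 0, 2], [0, 1, 0, 2, 0, 3, 0, 2, 1], [0, 2, 1, 2, 0, 0, 3, 0, 3], [2, 2, 2, 1, 1, 3, 1, 2, 1]]]
noncomputable def AW : List (List Nat) := [[(nat_lit 64), (nat_lit 40), (nat_lit 40), (nat_lit 82), (nat_lit 40), (nat_lit 64), (nat_lit 3), (nat_lit 75), (nat_lit 4), (nat_lit 40), (nat_lit 63), (nat_lit 4)],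
  [(nat_lit 3), (nat_lit 63), (nat_lit 39), (nat_lit 82), (nat_lit 4), (nat_lit 39), (nat_lit 63), (nat_lit 3), (nat_lit 75), (nat_lit 40), (nat_lit 75), (nat_lit 3)],
  [(nat_lit 4), (nat_lit 40), (nat_lit 78), (nat_lit 3), (nat_lit 39), (nat_lit 64), (nat_lit 39), (nat_lit 81), (nat_lit 40), (nat_lit 81), (nat_lit 39), (nat_lit 63), (nat_lit 39)],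
  [(nat_lit 4), (nat_lit 82), (nat_lit 3), (nat_lit 82), (nat_lit 39), (nat_lit 20), (nat_lit 81), (nat_lit 40), (nat_lit 81), (nat_lit 4), (nat_lit 81), (nat_lit 3)],
  [(nat_lit 3), (nat_lit 76), (nat_lit 3), (nat_lit 63), (nat_lit 40), (nat_lit 63), (nat_lit 76), (nat_lit 40), (nat_lit 75), (nat_lit 39), (nat_lit 81), (nat_lit 20), (nat_lit 3)],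
  [(nat_lit 40), (nat_lit 76), (nat_lit 40), (nat_lit 76), (nat_lit 39), (nat_lit 64), (nat_lit 81), (nat_lit 39), (nat_lit 77), (nat_lit 39), (nat_lit 75), (nat_lit 39)],
  [(nat_lit 19), (nat_lit 63), (nat_lit 3), (nat_lit 82), (nat_lit 39), (nat_lit 81), (nat_lit 40), (nat_lit 81), (nat_lit 4), (nat_lit 64), (nat_lit 20)]]
noncomputable def XW : List (List Nat) := [[],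
  [(nat_lit 8), (nat_lit 10), (nat_lit 6), (nat_lit 8), (nat_lit 10), (nat_lit 6), (nat_lit 9), (nat_lit 2), (nat_lit 6), (nat_lit 10), (nat_lit 7), (nat_lit 5), (nat_lit 10), (nat_lit 5), (nat_lit 7), (nat_lit 10), (nat_lit 7), (nat_lit 5), (nat_lit 9), (nat_lit 5), (nat_lit 9)],
  [(nat_lit 10), (nat_lit 6), (nat_lit 10), (nat_lit 6), (nat_lit 8), (nat_lit 9), (nat_lit 8), (nat_lit 6), (nat_lit 9), (nat_lit 6), (nat_lit 7), (nat_lit 9), (nat_lit 5), (nat_lit 1), (nat_lit 10), (nat_lit 5), (nat_lit 9), (nat_lit 7), (nat_lit 5), (nat_lit 9), (nat_lit 7)],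
  [(nat_lit 6), (nat_lit 14), (nat_lit 9), (nat_lit 6), (nat_lit 8), (nat_lit 6), (nat_lit 10), (nat_lit 6), (nat_lit 7), (nat_lit 10), (nat_lit 5), (nat_lit 9), (nat_lit 5), (nat_lit 7), (nat_lit 9), (nat_lit 5), (nat_lit 9), (nat_lit 7), (nat_lit 1)],
  [(nat_lit 2), (nat_lit 6), (nat_lit 8), (nat_lit 4), (nat_lit 6), (nat_lit 9), (nat_lit 2), (nat_lit 6), (nat_lit 8), (nat_lit 10), (nat_lit 6), (nat_lit 10), (nat_lit 5), (nat_lit 9), (nat_lit 7), (nat_lit 5), (nat_lit 9), (nat_lit 5), (nat_lit 7), (nat_lit 10), (nat_lit 5), (nat_lit 10), (nat_lit 3), (nat_lit 1)],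
  [(nat_lit 12), (nat_lit 8), (nat_lit 14), (nat_lit 9), (nat_lit 5), (nat_lit 7), (nat_lit 9), (nat_lit 5), (nat_lit 10), (nat_lit 4), (nat_lit 7), (nat_lit 5), (nat_lit 10), (nat_lit 5), (nat_lit 7)],
  [(nat_lit 2), (nat_lit 8), (nat_lit 10), (nat_lit 6), (nat_lit 10), (nat_lit 8), (nat_lit 6), (nat_lit 10), (nat_lit 5), (nat_lit 9), (nat_lit 7), (nat_lit 5), (nat_lit 9), (nat_lit 5), (nat_lit 7), (nat_lit 5), (nat_lit 10), (nat_lit 13), (nat_lit 5)],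
  [(nat_lit 8), (nat_lit 6), (nat_lit 9), (nat_lit 6), (nat_lit 7), (nat_lit 9), (nat_lit 5), (nat_lit 10), (nat_lit 4), (nat_lit 7), (nat_lit 5), (nat_lit 10), (nat_lit 13), (nat_lit 7), (nat_lit 11)],
  [(nat_lit 2), (nat_lit 3), (nat_lit 9), (nat_lit 6), (nat_lit 8), (nat_lit 9), (nat_lit 6), (nat_lit 10), (nat_lit 6), (nat_lit 10), (nat_lit 8), (nat_lit 6), (nat_lit 9), (nat_lit 5), (nat_lit 7), (nat_lit 9), (nat_lit 5), (nat_lit 1), (nat_lit 10), (nat_lit 5), (nat_lit 7), (nat_lit 5), (nat_lit 1)],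
  [(nat_lit 6), (nat_lit 2), (nat_lit 10), (nat_lit 6), (nat_lit 7), (nat_lit 5), (nat_lit 9), (nat_lit 7), (nat_lit 5), (nat_lit 9), (nat_lit 5), (nat_lit 10), (nat_lit 5), (nat_lit 7), (nat_lit 9)],
  [(nat_lit 12), (nat_lit 2), (nat_lit 7), (nat_lit 5), (nat_lit 9), (nat_lit 5), (nat_lit 10), (nat_lit 5), (nat_lit 10), (nat_lit 7), (nat_lit 5), (nat_lit 10), (nat_lit 3), (nat_lit 1)],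
  [(nat_lit 4), (nat_lit 8), (nat_lit 6), (nat_lit 9), (nat_lit 6), (nat_lit 8), (nat_lit 10), (nat_lit 5), (nat_lit 7), (nat_lit 9), (nat_lit 5), (nat_lit 10), (nat_lit 13), (nat_lit 5), (nat_lit 3), (nat_lit 7), (nat_lit 4)],
  [(nat_lit 2), (nat_lit 8), (nat_lit 4), (nat_lit 10), (nat_lit 5), (nat_lit 10), (nat_lit 5), (nat_lit 7), (nat_lit 10), (nat_lit 5), (nat_lit 9), (nat_lit 1), (nat_lit 5), (nat_lit 7), (nat_lit 5)],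
  [(nat_lit 2), (nat_lit 8), (nat_lit 4), (nat_lit 10), (nat_lit 5), (nat_lit 10), (nat_lit 5), (nat_lit 9), (nat_lit 5), (nat_lit 7), (nat_lit 11), (nat_lit 9), (nat_lit 7), (nat_lit 5), (nat_lit 10)],
  [(nat_lit 6), (nat_lit 2), (nat_lit 9), (nat_lit 5), (nat_lit 7), (nat_lit 9), (nat_lit 5), (nat_lit 9), (nat_lit 5), (nat_lit 10), (nat_lit 7), (nat_lit 5), (nat_lit 9), (nat_lit 1)],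
  [(nat_lit 2), (nat_lit 6), (nat_lit 8), (nat_lit 4), (nat_lit 10), (nat_lit 6), (nat_lit 2), (nat_lit 8), (nat_lit 10), (nat_lit 5), (nat_lit 9), (nat_lit 5), (nat_lit 10), (nat_lit 5), (nat_lit 7), (nat_lit 9), (nat_lit 5), (nat_lit 7), (nat_lit 1)],
  [(nat_lit 6), (nat_lit 9), (nat_lit 2), (nat_lit 8), (nat_lit 6), (nat_lit 9), (nat_lit 5), (nat_lit 7), (nat_lit 9), (nat_lit 5), (nat_lit 10), (nat_lit 5), (nat_lit 7), (nat_lit 5), (nat_lit 9), (nat_lit 4), (nat_lit 1)],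
  [(nat_lit 6), (nat_lit 9), (nat_lit 6), (nat_lit 10), (nat_lit 6), (nat_lit 8), (nat_lit 9), (nat_lit 5), (nat_lit 9), (nat_lit 7), (nat_lit 5), (nat_lit 9), (nat_lit 5), (nat_lit 10), (nat_lit 13), (nat_lit 7), (nat_lit 5), (nat_lit 3)],
  [],
  [(nat_lit 10), (nat_lit 6), (nat_lit 2), (nat_lit 8), (nat_lit 6), (nat_lit 10), (nat_lit 6), (nat_lit 8), (nat_lit 10), (nat_lit 5), (nat_lit 7), (nat_lit 9), (nat_lit 7), (nat_lit 5), (nat_lit 9), (nat_lit 5), (nat_lit 9), (nat_lit 5), (nat_lit 7)],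
  [(nat_lit 8), (nat_lit 6), (nat_lit 10), (nat_lit 6), (nat_lit 10), (nat_lit 6), (nat_lit 8), (nat_lit 10), (nat_lit 7), (nat_lit 5), (nat_lit 9), (nat_lit 7), (nat_lit 5), (nat_lit 9), (nat_lit 5), (nat_lit 7), (nat_lit 1), (nat_lit 5), (nat_lit 9)],
  [(nat_lit 2), (nat_lit 6), (nat_lit 8), (nat_lit 4), (nat_lit 6), (nat_lit 2), (nat_lit 10), (nat_lit 6), (nat_lit 10), (nat_lit 5), (nat_lit 10), (nat_lit 7), (nat_lit 5), (nat_lit 10), (nat_lit 5), (nat_lit 9), (nat_lit 7), (nat_lit 5), (nat_lit 9)],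
  [(nat_lit 2), (nat_lit 3), (nat_lit 6), (nat_lit 8), (nat_lit 10), (nat_lit 6), (nat_lit 8), (nat_lit 10), (nat_lit 6), (nat_lit 9), (nat_lit 5), (nat_lit 10), (nat_lit 5), (nat_lit 7), (nat_lit 10), (nat_lit 5), (nat_lit 9), (nat_lit 5), (nat_lit 10), (nat_lit 13)],
  [(nat_lit 9), (nat_lit 2), (nat_lit 6), (nat_lit 9), (nat_lit 8), (nat_lit 6), (nat_lit 10), (nat_lit 8), (nat_lit 6), (nat_lit 10), (nat_lit 5), (nat_lit 10), (nat_lit 5), (nat_lit 7), (nat_lit 9), (nat_lit 5), (nat_lit 7), (nat_lit 10), (nat_lit 5), (nat_lit 3), (nat_lit 1)],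
  [(nat_lit 10), (nat_lit 6), (nat_lit 8), (nat_lit 4), (nat_lit 10), (nat_lit 6), (nat_lit 9), (nat_lit 6), (nat_lit 9), (nat_lit 7), (nat_lit 5), (nat_lit 9), (nat_lit 5), (nat_lit 9), (nat_lit 1), (nat_lit 5), (nat_lit 7), (nat_lit 5), (nat_lit 1)],
  [(nat_lit 2), (nat_lit 4), (nat_lit 6), (nat_lit 9), (nat_lit 8), (nat_lit 6), (nat_lit 10), (nat_lit 8), (nat_lit 6), (nat_lit 9), (nat_lit 5), (nat_lit 9), (nat_lit 5), (nat_lit 7), (nat_lit 9), (nat_lit 5), (nat_lit 7), (nat_lit 10), (nat_lit 5), (nat_lit 1), (nat_lit 10)],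
  [(nat_lit 14), (nat_lit 9), (nat_lit 6), (nat_lit 10), (nat_lit 6), (nat_lit 9), (nat_lit 8), (nat_lit 6), (nat_lit 9), (nat_lit 5), (nat_lit 10), (nat_lit 5), (nat_lit 9), (nat_lit 7), (nat_lit 5), (nat_lit 9), (nat_lit 7), (nat_lit 5), (nat_lit 4), (nat_lit 1)],
  [],
  [(nat_lit 8), (nat_lit 9), (nat_lit 6), (nat_lit 10), (nat_lit 6), (nat_lit 10), (nat_lit 8), (nat_lit 6), (nat_lit 9), (nat_lit 7), (nat_lit 5), (nat_lit 10), (nat_lit 7), (nat_lit 5), (nat_lit 10), (nat_lit 7), (nat_lit 5), (nat_lit 4), (nat_lit 7), (nat_lit 4), (nat_lit 1)],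
  [(nat_lit 10), (nat_lit 6), (nat_lit 2), (nat_lit 9), (nat_lit 8), (nat_lit 6), (nat_lit 10), (nat_lit 6), (nat_lit 8), (nat_lit 10), (nat_lit 5), (nat_lit 9), (nat_lit 1), (nat_lit 5), (nat_lit 7), (nat_lit 9), (nat_lit 5), (nat_lit 4), (nat_lit 7), (nat_lit 9)],
  [],
  [(nat_lit 2), (nat_lit 8), (nat_lit 4), (nat_lit 12), (nat_lit 8), (nat_lit 6), (nat_lit 10), (nat_lit 5), (nat_lit 9), (nat_lit 5), (nat_lit 7), (nat_lit 10), (nat_lit 5), (nat_lit 10), (nat_lit 5), (nat_lit 10), (nat_lit 7), (nat_lit 3)],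
  [(nat_lit 4), (nat_lit 9), (nat_lit 6), (nat_lit 9), (nat_lit 6), (nat_lit 8), (nat_lit 9), (nat_lit 6), (nat_lit 1), (nat_lit 9), (nat_lit 5), (nat_lit 7), (nat_lit 9), (nat_lit 5), (nat_lit 7), (nat_lit 9), (nat_lit 5), (nat_lit 9), (nat_lit 4), (nat_lit 1)],
  [(nat_lit 10), (nat_lit 8), (nat_lit 6), (nat_lit 10), (nat_lit 6), (nat_lit 14), (nat_lit 9), (nat_lit 8), (nat_lit 6), (nat_lit 9), (nat_lit 5), (nat_lit 7), (nat_lit 10), (nat_lit 5), (nat_lit 10), (nat_lit 5), (nat_lit 9), (nat_lit 7), (nat_lit 5), (nat_lit 4), (nat_lit 1)],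
  [(nat_lit 4), (nat_lit 8), (nat_lit 9), (nat_lit 6), (nat_lit 9), (nat_lit 6), (nat_lit 9), (nat_lit 7), (nat_lit 5), (nat_lit 10), (nat_lit 5), (nat_lit 9), (nat_lit 5), (nat_lit 7), (nat_lit 11), (nat_lit 3), (nat_lit 7), (nat_lit 1)],
  [(nat_lit 9), (nat_lit 6), (nat_lit 10), (nat_lit 6), (nat_lit 8), (nat_lit 9), (nat_lit 6), (nat_lit 9), (nat_lit 5), (nat_lit 10), (nat_lit 7), (nat_lit 5), (nat_lit 10), (nat_lit 5), (nat_lit 10), (nat_lit 5), (nat_lit 7), (nat_lit 5), (nat_lit 4), (nat_lit 1)],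
  [],
  [(nat_lit 4), (nat_lit 5), (nat_lit 7), (nat_lit 9), (nat_lit 5), (nat_lit 10), (nat_lit 5), (nat_lit 9), (nat_lit 5), (nat_lit 7), (nat_lit 10), (nat_lit 5)],
  [(nat_lit 8), (nat_lit 9), (nat_lit 12), (nat_lit 7), (nat_lit 5), (nat_lit 9), (nat_lit 5), (nat_lit 10), (nat_lit 5), (nat_lit 4), (nat_lit 7), (nat_lit 11), (nat_lit 10), (nat_lit 7)],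
  [(nat_lit 3), (nat_lit 9), (nat_lit 8), (nat_lit 6), (nat_lit 9), (nat_lit 6), (nat_lit 10), (nat_lit 7), (nat_lit 5), (nat_lit 9), (nat_lit 7), (nat_lit 5), (nat_lit 10), (nat_lit 5), (nat_lit 7), (nat_lit 10), (nat_lit 7)],
  [(nat_lit 6), (nat_lit 10), (nat_lit 6), (nat_lit 8), (nat_lit 6), (nat_lit 10), (nat_lit 6), (nat_lit 10), (nat_lit 7), (nat_lit 1), (nat_lit 5), (nat_lit 9), (nat_lit 7), (nat_lit 5), (nat_lit 10), (nat_lit 13), (nat_lit 5), (nat_lit 7), (nat_lit 9)],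
  [(nat_lit 9), (nat_lit 2), (nat_lit 6), (nat_lit 8), (nat_lit 9), (nat_lit 6), (nat_lit 8), (nat_lit 9), (nat_lit 5), (nat_lit 10), (nat_lit 4), (nat_lit 7), (nat_lit 5), (nat_lit 10), (nat_lit 7), (nat_lit 5), (nat_lit 1), (nat_lit 10)],
  [(nat_lit 8), (nat_lit 9), (nat_lit 2), (nat_lit 6), (nat_lit 8), (nat_lit 10), (nat_lit 5), (nat_lit 7), (nat_lit 1), (nat_lit 10), (nat_lit 5), (nat_lit 7), (nat_lit 10), (nat_lit 7), (nat_lit 5), (nat_lit 10), (nat_lit 7)],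
  [(nat_lit 2), (nat_lit 4), (nat_lit 10), (nat_lit 6), (nat_lit 8), (nat_lit 12), (nat_lit 8), (nat_lit 9), (nat_lit 5), (nat_lit 9), (nat_lit 5), (nat_lit 9), (nat_lit 5), (nat_lit 7), (nat_lit 5), (nat_lit 9), (nat_lit 5), (nat_lit 9), (nat_lit 3), (nat_lit 1)],
  [(nat_lit 6), (nat_lit 10), (nat_lit 2), (nat_lit 6), (nat_lit 9), (nat_lit 6), (nat_lit 7), (nat_lit 10), (nat_lit 5), (nat_lit 10), (nat_lit 7), (nat_lit 5), (nat_lit 9), (nat_lit 5), (nat_lit 10), (nat_lit 5), (nat_lit 4), (nat_lit 1)]]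
noncomputable def SA : List (List (List Nat)) := [[[0, 1, 3, 2, 3, 2, 2, 1, 0], [1, 1, 2, 1, 3, 0, 2, 1, 0], [2, 3, 1, 1, 0, 2, 1, 0, 2], [3, 1, 1, 0, 3, 3, 3, 2, 0], [2, 2, 0, 2, 1, 2, 1, 3, 0], [3, 0, 3, 2, 3, 1, 3, 0, 1], [3, 3, 1, 2, 1, 2, 1, 0, 0], [1, 1, 0, 3, 2, 0, 0, 0, 3], [0, 0, 3, 0, 0, 1, 0, 2, 0]],
  [[0, 0, 0, 1, 1, 3, 0, 1, 1], [2, 1, 2, 1, 3, 1, 2, 2, 2], [0, 3, 2, 2, 2, 0, 1, 3, 3], [1, 1, 3, 2, 2, 3, 2, 2, 3], [1, 2, 3, 3, 2, 0, 0, 3, 2], [3, 2, 0, 2, 0, 0, 1, 0, 2], [0, 3, 1, 3, 0, 1, 2, 2, 3], [0, 0, 2, 3, 2, 1, 3, 1, 2], [2, 1, 2, 2, 3, 0, 2, 0, 1]],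
  [[0, 0, 3, 1, 2, 1, 3, 2, 3], [0, 0, 1, 0, 3, 1, 2, 0, 1], [2, 1, 1, 1, 0, 3, 1, 0, 1], [1, 0, 1, 1, 1, 3, 1, 0, 3], [3, 2, 0, 1, 1, 1, 0, 3, 3], [1, 1, 2, 2, 1, 1, 3, 1, 3], [2, 3, 1, 1, 0, 2, 1, 1, 0], [3, 0, 0, 0, 2, 1, 1, 0, 1], [2, 1, 1, 2, 2, 2, 0, 1, 0]],
  [[0, 1, 2, 1, 1, 1, 2, 0, 2], [1, 1, 0, 0, 2, 3, 3, 1, 3], [3, 0, 1, 0, 1, 0, 0, 1, 3], [1, 0, 0, 1, 2, 2, 2, 0, 0], [1, 3, 1, 3, 1, 0, 2, 0, 1], [1, 2, 0, 3, 0, 1, 2, 1, 2], [3, 2, 0, 3, 3, 3, 0, 1, 2], [0, 1, 1, 0, 0, 1, 1, 1, 0], [3, 2, 2, 0, 1, 3, 3, 0, 1]],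
  [[1, 3, 3, 3, 1, 3, 2, 1, 1], [3, 3, 3, 1, 0, 0, 3, 1, 2], [0, 0, 2, 0, 1, 2, 3, 0, 3], [3, 1, 2, 0, 1, 2, 2, 0, 1], [1, 3, 0, 3, 3, 2, 1, 2, 0], [2, 1, 2, 3, 0, 3, 2, 2, 0], [0, 0, 0, 1, 3, 2, 2, 0, 3], [0, 1, 1, 2, 3, 0, 3, 1, 3], [0, 1, 1, 3, 1, 3, 3, 0, 3]],
  [[1, 1, 3, 1, 0, 0, 2, 3, 2], [1, 1, 2, 3, 2, 1, 3, 3, 1], [2, 3, 0, 1, 0, 0, 1, 0, 1], [1, 2, 1, 1, 1, 1, 3, 2, 2], [0, 3, 0, 1, 1, 2, 3, 1, 3], [0, 1, 0, 1, 3, 0, 0, 1, 3], [3, 2, 1, 2, 2, 0, 0, 2, 3], [2, 2, 0, 3, 1, 1, 3, 0, 2], [3, 1, 1, 3, 2, 2, 2, 3, 1]],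
  [[0, 1, 2, 0, 3, 1, 0, 0, 3], [1, 1, 0, 0, 0, 0, 1, 3, 3], [3, 0, 1, 0, 1, 0, 0, 1, 3], [0, 0, 0, 1, 1, 0, 3, 3, 1], [2, 0, 1, 1, 0, 1, 0, 0, 1], [1, 0, 0, 0, 1, 1, 2, 0, 2], [0, 1, 0, 2, 0, 3, 0, 2, 1], [0, 2, 1, 2, 0, 0, 3, 0, 3], [2, 2, 2, 1, 1, 3, 1, 2, 1]]]
noncomputable def SD : List (List (List (List Nat))) := [[[[1, 1, 0, 0, 0, 0, 0, 0, 0], [0, 1, 0, 0, 0, 0, 0, 0, 0], [0, 0, 1, 0, 0, 0, 0, 0, 0], [0, 0, 0, 1, 0, 0, 0, 0, 0], [0, 0, 0, 0, 1, 1, 0, 0, 0], [0, 0, 0, 0, 0, 1, 0, 0, 0], [0, 0, 0, 0, 0, 0, 1, 0, 0], [0, 0, 0, 0, 0, 0, 0, 1, 1], [0, 0, 0, 0, 0, 0, 0, 0, 1]],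
  [[1, 0, 0, 0, 0, 0, 0, 0, 0], [1, 1, 0, 0, 0, 0, 0, 0, 0], [2, 3, 1, 0, 0, 0, 0, 0, 0], [3, 1, 1, 1, 0, 0, 0, 0, 0], [1, 2, 3, 3, 1, 0, 0, 0, 0], [3, 0, 0, 0, 1, 1, 0, 0, 0], [3, 3, 0, 1, 2, 3, 1, 0, 0], [1, 1, 1, 3, 3, 0, 0, 1, 0], [0, 0, 3, 3, 0, 3, 0, 1, 1]],
  [[1, 0, 1, 3, 0, 2, 0, 0, 0], [0, 1, 3, 2, 3, 2, 2, 1, 0], [0, 0, 1, 1, 2, 0, 0, 3, 2], [0, 0, 0, 1, 2, 0, 1, 0, 2], [0, 0, 0, 0, 3, 2, 2, 3, 1], [0, 0, 0, 0, 0, 2, 1, 3, 0], [0, 0, 0, 0, 0, 0, 1, 0, 0], [0, 0, 0, 0, 0, 0, 0, 2, 3], [0, 0, 0, 0, 0, 0, 0, 0, 3]]],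
 [[[1, 1, 1, 1, 0, 0, 0, 0, 0], [0, 1, 1, 1, 0, 0, 0, 0, 0], [0, 0, 1, 1, 0, 0, 0, 0, 0], [0, 0, 0, 1, 0, 0, 0, 0, 0], [0, 0, 0, 0, 1, 0, 0, 0, 0], [0, 0, 0, 0, 0, 1, 0, 0, 0], [0, 0, 0, 0, 0, 0, 1, 0, 0], [0, 0, 0, 0, 0, 0, 0, 1, 0], [0, 0, 0, 0, 0, 0, 0, 0, 1]],
  [[1, 0, 0, 0, 0, 0, 0, 0, 0], [1, 1, 0, 0, 0, 0, 0, 0, 0], [3, 2, 1, 0, 0, 0, 0, 0, 0], [3, 3, 1, 1, 0, 0, 0, 0, 0], [3, 2, 2, 0, 1, 0, 0, 0, 0], [2, 0, 1, 3, 0, 1, 0, 0, 0], [0, 1, 1, 1, 1, 2, 1, 0, 0], [0, 0, 3, 0, 1, 1, 3, 1, 0], [1, 0, 0, 2, 2, 3, 0, 3, 1]],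
  [[2, 1, 2, 0, 2, 2, 2, 3, 3], [0, 3, 2, 3, 3, 3, 1, 2, 2], [0, 0, 3, 1, 0, 3, 0, 0, 1], [0, 0, 0, 1, 1, 3, 0, 1, 1], [0, 0, 0, 0, 2, 1, 3, 2, 1], [0, 0, 0, 0, 0, 2, 2, 2, 1], [0, 0, 0, 0, 0, 0, 3, 0, 2], [0, 0, 0, 0, 0, 0, 0, 1, 0], [0, 0, 0, 0, 0, 0, 0, 0, 1]]],
 [[[1, 0, 1, 0, 0, 0, 0, 0, 0], [0, 1, 0, 1, 0, 0, 0, 0, 0], [0, 0, 1, 0, 0, 0, 0, 0, 0], [0, 0, 0, 1, 0, 0, 0, 0, 0], [0, 0, 0, 0, 1, 1, 0, 0, 0], [0, 0, 0, 0, 0, 1, 0, 0, 0], [0, 0, 0, 0, 0, 0, 1, 0, 0], [0, 0, 0, 0, 0, 0, 0, 1, 1], [0, 0, 0, 0, 0, 0, 0, 0, 1]],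
  [[1, 0, 0, 0, 0, 0, 0, 0, 0], [3, 1, 0, 0, 0, 0, 0, 0, 0], [1, 0, 1, 0, 0, 0, 0, 0, 0], [3, 1, 2, 1, 0, 0, 0, 0, 0], [1, 3, 1, 3, 1, 0, 0, 0, 0], [3, 3, 0, 3, 1, 1, 0, 0, 0], [1, 3, 0, 1, 0, 2, 1, 0, 0], [3, 3, 1, 0, 3, 1, 1, 1, 0], [1, 0, 1, 2, 1, 1, 1, 1, 1]],
  [[2, 1, 2, 0, 2, 2, 2, 2, 2], [0, 3, 1, 1, 3, 3, 2, 1, 3], [0, 0, 3, 1, 2, 1, 3, 2, 3], [0, 0, 0, 2, 0, 3, 3, 3, 0], [0, 0, 0, 0, 2, 3, 1, 3, 3], [0, 0, 0, 0, 0, 3, 0, 2, 3], [0, 0, 0, 0, 0, 0, 1, 0, 1], [0, 0, 0, 0, 0, 0, 0, 1, 1], [0, 0, 0, 0, 0, 0, 0, 0, 1]]],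
 [[[1, 1, 0, 0, 0, 0, 0, 0, 0], [0, 1, 0, 0, 0, 0, 0, 0, 0], [0, 0, 1, 1, 0, 0, 0, 0, 0], [0, 0, 0, 1, 0, 0, 0, 0, 0], [0, 0, 0, 0, 1, 0, 0, 0, 0], [0, 0, 0, 0, 0, 1, 1, 0, 0], [0, 0, 0, 0, 0, 0, 1, 0, 0], [0, 0, 0, 0, 0, 0, 0, 1, 0], [0, 0, 0, 0, 0, 0, 0, 0, 1]],
  [[1, 0, 0, 0, 0, 0, 0, 0, 0], [1, 1, 0, 0, 0, 0, 0, 0, 0], [2, 0, 1, 0, 0, 0, 0, 0, 0], [1, 0, 1, 1, 0, 0, 0, 0, 0], [1, 3, 1, 3, 1, 0, 0, 0, 0], [2, 0, 2, 1, 2, 1, 0, 0, 0], [3, 2, 1, 2, 0, 1, 1, 0, 0], [0, 1, 2, 0, 2, 1, 0, 1, 0], [3, 2, 0, 2, 0, 3, 0, 0, 1]],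
  [[1, 0, 2, 1, 3, 2, 1, 1, 1], [0, 1, 2, 1, 1, 1, 2, 0, 2], [0, 0, 2, 3, 2, 1, 0, 3, 1], [0, 0, 0, 3, 3, 1, 3, 2, 0], [0, 0, 0, 0, 1, 3, 0, 3, 0], [0, 0, 0, 0, 0, 3, 3, 0, 0], [0, 0, 0, 0, 0, 0, 2, 2, 3], [0, 0, 0, 0, 0, 0, 0, 1, 0], [0, 0, 0, 0, 0, 0, 0, 0, 1]]],
 [[[1, 0, 0, 0, 0, 0, 0, 0, 0], [0, 1, 0, 0, 0, 0, 0, 0, 0], [0, 0, 1, 0, 0, 0, 0, 0, 0], [0, 0, 0, 1, 0, 1, 0, 0, 0], [0, 0, 0, 0, 1, 1, 0, 0, 0], [0, 0, 0, 0, 0, 1, 0, 0, 0], [0, 0, 0, 0, 0, 0, 1, 0, 0], [0, 0, 0, 0, 0, 0, 0, 1, 0], [0, 0, 0, 0, 0, 0, 0, 0, 1]],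
  [[1, 0, 0, 0, 0, 0, 0, 0, 0], [3, 1, 0, 0, 0, 0, 0, 0, 0], [0, 0, 1, 0, 0, 0, 0, 0, 0], [1, 3, 0, 1, 0, 0, 0, 0, 0], [3, 0, 0, 1, 1, 0, 0, 0, 0], [2, 0, 2, 1, 1, 1, 0, 0, 0], [0, 0, 0, 3, 1, 0, 1, 0, 0], [0, 1, 0, 3, 3, 0, 0, 1, 0], [0, 1, 0, 0, 1, 3, 1, 1, 1]],
  [[1, 3, 3, 3, 1, 3, 2, 1, 1], [0, 1, 1, 3, 3, 2, 2, 2, 1], [0, 0, 2, 0, 1, 2, 3, 0, 3], [0, 0, 0, 2, 2, 3, 3, 2, 3], [0, 0, 0, 0, 2, 0, 1, 1, 0], [0, 0, 0, 0, 0, 2, 2, 3, 0], [0, 0, 0, 0, 0, 0, 1, 0, 1], [0, 0, 0, 0, 0, 0, 0, 1, 0], [0, 0, 0, 0, 0, 0, 0, 0, 3]]],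
 [[[1, 0, 0, 0, 0, 0, 0, 0, 0], [0, 1, 1, 0, 0, 0, 0, 0, 0], [0, 0, 1, 0, 0, 0, 0, 0, 0], [0, 0, 0, 1, 1, 0, 0, 0, 0], [0, 0, 0, 0, 1, 0, 0, 0, 0], [0, 0, 0, 0, 0, 1, 0, 0, 0], [0, 0, 0, 0, 0, 0, 1, 0, 0], [0, 0, 0, 0, 0, 0, 0, 1, 0], [0, 0, 0, 0, 0, 0, 0, 0, 1]],
  [[1, 0, 0, 0, 0, 0, 0, 0, 0], [3, 1, 0, 0, 0, 0, 0, 0, 0], [2, 1, 1, 0, 0, 0, 0, 0, 0], [1, 0, 2, 1, 0, 0, 0, 0, 0], [0, 3, 0, 1, 1, 0, 0, 0, 0], [0, 1, 0, 0, 2, 1, 0, 0, 0], [3, 1, 3, 3, 1, 1, 1, 0, 0], [2, 0, 1, 2, 3, 2, 0, 1, 0], [3, 2, 3, 2, 2, 1, 2, 3, 1]],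
  [[1, 1, 3, 1, 0, 0, 2, 3, 2], [0, 1, 0, 1, 2, 1, 3, 1, 1], [0, 0, 1, 2, 2, 1, 1, 0, 3], [0, 0, 0, 2, 3, 1, 0, 0, 2], [0, 0, 0, 0, 3, 0, 1, 2, 2], [0, 0, 0, 0, 0, 1, 1, 3, 1], [0, 0, 0, 0, 0, 0, 1, 0, 3], [0, 0, 0, 0, 0, 0, 0, 1, 2], [0, 0, 0, 0, 0, 0, 0, 0, 1]]],
 [[[1, 1, 0, 0, 0, 0, 0, 0, 0], [0, 1, 0, 0, 0, 0, 0, 0, 0], [0, 0, 1, 0, 1, 0, 0, 0, 0], [0, 0, 0, 1, 0, 0, 0, 0, 0], [0, 0, 0, 0, 1, 0, 0, 0, 0], [0, 0, 0, 0, 0, 1, 0, 0, 0], [0, 0, 0, 0, 0, 0, 1, 0, 0], [0, 0, 0, 0, 0, 0, 0, 1, 0], [0, 0, 0, 0, 0, 0, 0, 0, 1]],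
  [[1, 0, 0, 0, 0, 0, 0, 0, 0], [1, 1, 0, 0, 0, 0, 0, 0, 0], [1, 0, 1, 0, 0, 0, 0, 0, 0], [0, 0, 0, 1, 0, 0, 0, 0, 0], [2, 0, 1, 0, 1, 0, 0, 0, 0], [1, 0, 1, 1, 2, 1, 0, 0, 0], [0, 1, 1, 3, 3, 0, 1, 0, 0], [0, 2, 1, 3, 0, 2, 0, 1, 0], [2, 2, 1, 0, 1, 0, 1, 2, 1]],
  [[1, 0, 2, 0, 3, 1, 1, 3, 0], [0, 1, 2, 0, 3, 1, 0, 0, 3], [0, 0, 2, 1, 2, 0, 1, 2, 2], [0, 0, 0, 1, 1, 0, 3, 3, 1], [0, 0, 0, 0, 3, 3, 3, 3, 3], [0, 0, 0, 0, 0, 1, 0, 3, 0], [0, 0, 0, 0, 0, 0, 1, 0, 1], [0, 0, 0, 0, 0, 0, 0, 1, 3], [0, 0, 0, 0, 0, 0, 0, 0, 1]]]]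

end CF.Comp.J3
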